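import Cfsg.Agent.Lib.CGT57.Component
import Cfsg.Agent.Lib.LAEven57.Blocks.Transport

/-!
# Pushing up odd automorphisms of a Sylow 2-subgroup

`W` is the product of the modules of a transitive family of blocks.  For an automorphism `a` of `T` of odd order the
images `aᵏ(W)` alternate between centralising and moving `W` once one of them moves it, which is absurd; so all of
them centralise `W` and their join is normal in the group generated by `T` and the blocks.
-/

set_option autoImplicit false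
set_option linter.style.haveILetI false
set_option linter.unusedSectionVars false
set_option linter.unusedVariables false
set_option maxHeartbeats 800000

open Cfsg
open scoped commutatorElement Pointwise

namespace Cfsg.Agent.Lib.CGT57

open Cfsg.Agent.Lib.LAEven57.Blocks

universe u

variable {G : Type u} [Group G]

theorem mem_normalizer_cj {s : G} {H : Subgroup G} (hs : s ∈ Subgroup.normalizer (H : Set G)) : cj s H = H :=
  Subgroup.mem_normalizer_iff_map_conj_eq.1 hs

theorem cj_cj (a b : G) (H : Subgroup G) : cj a (cj b H) = cj (a * b) H := by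
  rw [cj, cj, cj, Subgroup.map_map]
  congr 1
  ext x; simp [mul_assoc]

theorem cj_cancel (g : G) (H : Subgroup G) : cj g (cj g⁻¹ H) = H := by
  rw [cj_cj, mul_inv_cancel, cj]
  convert Subgroup.map_id H using 2
  ext x; simp

theorem cj_inf (s : G) (H K : Subgroup G) : cj s (H ⊓ K) = cj s H ⊓ cj s K :=
  Subgroup.map_inf _ _ _ (show Function.Injective (MulAut.conj s).toMonoidHom from (MulAut.conj s).injective)

theorem cj_centralizer (s : G) (H : Subgroup G) :
    cj s (Subgroup.centralizer (H : Set G)) = Subgroup.centralizer ((cj s H : Subgroup G) : Set G) :=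
  Lib.LAEven57.Blocks.Transport.map_centralizer (MulAut.conj s) H

theorem cj_W1 [Finite G] (s : G) (E : Subgroup G) : cj s (W1 2 E) = W1 2 (cj s E) := by
  show Subgroup.map _ ⁅_, _⁆ = _
  rw [Subgroup.map_commutator]
  congr 1
  exact (Lib.LAEven57.Blocks.Transport.map_omegaOneCenter (MulAut.conj s) _).trans
    (congrArg _ (Lib.LAEven57.Blocks.Transport.map_pCoreOf (MulAut.conj s) E))

/-- A product in a join of a normalised subgroup. -/
theorem exists_mul_of_mem_sup {A B : Subgroup G} (h : A ≤ Subgroup.normalizer (B : Set G)) {x : G}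
    (hx : x ∈ A ⊔ B) : ∃ a ∈ A, ∃ b ∈ B, x = a * b := by
  rw [← SetLike.mem_coe, Subgroup.coe_mul_of_left_le_normalizer_right A B h] at hx
  obtain ⟨a, ha, b, hb, e⟩ := hx
  exact ⟨a, ha, b, hb, e.symm⟩

theorem card_relIndex (C X : Subgroup G) : Nat.card ↥(C ⊓ X) * C.relIndex X = Nat.card X := by
  rw [← Subgroup.inf_relIndex_right, ← Subgroup.relIndex_bot_left (H := C ⊓ X),
    Subgroup.relIndex_mul_relIndex ⊥ (C ⊓ X) X bot_le inf_le_right, Subgroup.relIndex_bot_left]

theorem eq_of_relIndex [Finite G] {A B C : Subgroup G} (hAB : A ≤ B) (hC : C ⊓ B ≤ A)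
    (h : C.relIndex B ≤ C.relIndex A) : A = B := by
  refine Subgroup.eq_of_le_of_card_ge hAB ?_
  rw [← card_relIndex C B, ← card_relIndex C A]
  exact Nat.mul_le_mul (Subgroup.card_le_of_le (le_inf inf_le_left hC)) h

section Img

variable {T : Subgroup G}

/-- The image of `H ∩ T` under an automorphism of `T`. -/
def img (a : MulAut T) (H : Subgroup G) : Subgroup G := ((H.subgroupOf T).map a.toMonoidHom).map T.subtype

theorem mem_img {a : MulAut T} {H : Subgroup G} {x : G} :
    x ∈ img a H ↔ ∃ h : T, (h : G) ∈ H ∧ (a h : G) = x := by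
  constructor
  · rintro ⟨_, ⟨h, hh, rfl⟩, rfl⟩; exact ⟨h, hh, rfl⟩
  · rintro ⟨h, hh, rfl⟩; exact ⟨_, ⟨h, hh, rfl⟩, rfl⟩

theorem img_le (a : MulAut T) (H : Subgroup G) : img a H ≤ T := Subgroup.map_subtype_le _

theorem img_mono (a : MulAut T) {H K : Subgroup G} (h : H ≤ K) : img a H ≤ img a K := fun x hx => by
  obtain ⟨y, hy, rfl⟩ := mem_img.1 hx
  exact mem_img.2 ⟨y, h hy, rfl⟩

theorem img_mul (a b : MulAut T) (H : Subgroup G) : img (a * b) H = img a (img b H) := by
  ext x
  rw [mem_img, mem_img]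
  constructor
  · rintro ⟨h, hh, rfl⟩
    exact ⟨b h, mem_img.2 ⟨h, hh, rfl⟩, rfl⟩
  · rintro ⟨y, hy, rfl⟩
    obtain ⟨h, hh, e⟩ := mem_img.1 hy
    exact ⟨h, hh, congrArg (fun z : T => (a z : G)) (Subtype.ext e)⟩

theorem img_one {H : Subgroup G} (hH : H ≤ T) : img (1 : MulAut T) H = H := by
  ext x
  rw [mem_img]
  exact ⟨fun ⟨h, hh, e⟩ => e ▸ hh, fun hx => ⟨⟨x, hH hx⟩, hx, rfl⟩⟩

theorem img_inv {a : MulAut T} {H : Subgroup G} (hH : H ≤ T) : img a (img a⁻¹ H) = H := by
  rw [← img_mul, mul_inv_cancel, img_one hH]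

theorem img_inf (a : MulAut T) (H K : Subgroup G) : img a (H ⊓ K) = img a H ⊓ img a K := by
  refine le_antisymm (le_inf (img_mono a inf_le_left) (img_mono a inf_le_right)) ?_
  rintro x ⟨hx, hx'⟩
  obtain ⟨h, hh, rfl⟩ := mem_img.1 hx
  obtain ⟨h', hh', e⟩ := mem_img.1 hx'
  obtain rfl := a.injective (Subtype.ext e)
  exact mem_img.2 ⟨h', ⟨hh, hh'⟩, rfl⟩

theorem img_inf_centralizer (a : MulAut T) (H : Subgroup G) {K : Subgroup G} (hK : K ≤ T) :
    img a (H ⊓ Subgroup.centralizer (K : Set G)) = img a H ⊓ Subgroup.centralizer (img a K : Set G) := by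
  ext x
  rw [Subgroup.mem_inf, mem_img, mem_img]
  constructor
  · rintro ⟨h, ⟨hh, hc⟩, rfl⟩
    refine ⟨⟨h, hh, rfl⟩, Subgroup.mem_centralizer_iff.2 fun y hy => ?_⟩
    obtain ⟨k, hk, rfl⟩ := mem_img.1 hy
    have e : k * h = h * k := Subtype.ext (Subgroup.mem_centralizer_iff.1 hc k hk)
    exact congrArg Subtype.val ((map_mul a k h).symm.trans ((congrArg a e).trans (map_mul a h k)))
  · rintro ⟨⟨h, hh, rfl⟩, hc⟩
    refine ⟨h, ⟨hh, Subgroup.mem_centralizer_iff.2 fun y hy => ?_⟩, rfl⟩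
    have e : a ⟨y, hK hy⟩ * a h = a h * a ⟨y, hK hy⟩ :=
      Subtype.ext (Subgroup.mem_centralizer_iff.1 hc _ (mem_img.2 ⟨⟨y, hK hy⟩, hy, rfl⟩))
    rw [← map_mul, ← map_mul] at e
    exact congrArg Subtype.val (a.injective e)

theorem img_commutator (a : MulAut T) {H K : Subgroup G} (hH : H ≤ T) (hK : K ≤ T) :
    img a ⁅H, K⁆ = ⁅img a H, img a K⁆ := by
  have e : ⁅H, K⁆.subgroupOf T = ⁅H.subgroupOf T, K.subgroupOf T⁆ := by
    refine Subgroup.map_injective T.subtype_injective ?_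
    rw [Subgroup.map_commutator, Subgroup.map_subgroupOf_eq_of_le hH, Subgroup.map_subgroupOf_eq_of_le hK,
      Subgroup.map_subgroupOf_eq_of_le ((Subgroup.commutator_mono hH hK).trans
        (Subgroup.commutator_le.2 fun x hx y hy => by
          rw [commutatorElement_def]; exact mul_mem (mul_mem (mul_mem hx hy) (inv_mem hx)) (inv_mem hy)))]
  show Subgroup.map _ (Subgroup.map _ _) = ⁅Subgroup.map _ (Subgroup.map _ _), Subgroup.map _ (Subgroup.map _ _)⁆
  rw [e, Subgroup.map_commutator, Subgroup.map_commutator]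

theorem img_card (a : MulAut T) {H : Subgroup G} (hH : H ≤ T) : Nat.card (img a H) = Nat.card H := by
  rw [img, Subgroup.card_map_of_injective T.subtype_injective,
    Subgroup.card_map_of_injective (show Function.Injective a.toMonoidHom from a.injective)]
  exact Nat.card_congr (Subgroup.subgroupOfEquivOfLe hH).toEquiv

theorem img_relIndex (a : MulAut T) (H : Subgroup G) {K : Subgroup G} (hK : K ≤ T) :
    (img a H).relIndex (img a K) = H.relIndex K := by
  rw [img, img, Subgroup.relIndex_map_map_of_injective _ _ T.subtype_injective,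
    Subgroup.relIndex_map_map_of_injective _ _ (show Function.Injective a.toMonoidHom from a.injective),
    Subgroup.relIndex_subgroupOf hK]

theorem img_char (a : MulAut T) {H : Subgroup G} (hH : H ≤ T) (hc : (H.subgroupOf T).Characteristic) :
    img a H = H := by
  rw [img, Subgroup.characteristic_iff_map_eq.1 hc a, Subgroup.map_subgroupOf_eq_of_le hH]

theorem img_normalised [Finite G] (a : MulAut T) {H : Subgroup G} (hH : T ≤ Subgroup.normalizer (H : Set G)) :
    T ≤ Subgroup.normalizer (img a H : Set G) := fun s hs =>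
  Baumann.mem_normalizer_of_forall fun x hx => by
    obtain ⟨h, hh, rfl⟩ := mem_img.1 hx
    refine mem_img.2 ⟨a⁻¹ ⟨s, hs⟩ * h * (a⁻¹ ⟨s, hs⟩)⁻¹, ?_, ?_⟩
    · exact (Subgroup.mem_normalizer_iff.1 (hH (a⁻¹ ⟨s, hs⟩).2) _).1 hh
    · rw [map_mul, map_mul, map_inv, MulAut.apply_inv_self]
      rfl

end Img

/-- A transitive family of blocks with a component of one of them. -/
structure Family [Finite G] (T : Sylow 2 G) where
  𝓑 : Set (Subgroup G)
  E : Subgroup G
  hE : E ∈ 𝓑
  hblk : ∀ F ∈ 𝓑, Cfsg.IsBaumannBlock 2 (T : Subgroup G) F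
  hsub : ∀ F ∈ 𝓑, F.IsSubnormal
  hcomm : ∀ F ∈ 𝓑, ∀ F' ∈ 𝓑, F ≠ F' → ⁅F, F'⁆ = ⊥
  hconj : ∀ F ∈ 𝓑, ∀ s ∈ (T : Subgroup G), cj s F ∈ 𝓑
  htrans : ∀ F ∈ 𝓑, ∃ s ∈ (T : Subgroup G), F = cj s E
  C : Component T E

namespace Family

variable [Finite G] {T : Sylow 2 G} (D : Family T)

/-- The product of the modules. -/
def W : Subgroup G := ⨆ F ∈ D.𝓑, W1 2 F

theorem isBlk {F : Subgroup G} (hF : F ∈ D.𝓑) : IsBlk 2 F := ⟨T, D.hblk F hF⟩

theorem W1_le_W {F : Subgroup G} (hF : F ∈ D.𝓑) : W1 2 F ≤ D.W := le_iSup₂ (f := fun F _ => W1 2 F) F hF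

theorem W1_le_centralizer {F F' : Subgroup G} (hF : F ∈ D.𝓑) (hF' : F' ∈ D.𝓑) (hne : F ≠ F') :
    W1 2 F ≤ Subgroup.centralizer (F' : Set G) :=
  ((W1_le_core 2 F).trans (CharP.pCoreOf_le 2 F)).trans
    (Subgroup.commutator_eq_bot_iff_le_centralizer.1 (D.hcomm F hF F' hF' hne))

theorem W_abelian : D.W ≤ Subgroup.centralizer (D.W : Set G) := by
  have h : ∀ F ∈ D.𝓑, ∀ F' ∈ D.𝓑, W1 2 F ≤ Subgroup.centralizer (W1 2 F' : Set G) := fun F hF F' hF' => by
    rcases eq_or_ne F F' with rfl | hne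
    · exact fun x hx => Subgroup.mem_centralizer_iff.2 fun y hy => W1_comm hy hx
    · exact (D.W1_le_centralizer hF hF' hne).trans
        (Subgroup.centralizer_le ((W1_le_core 2 F').trans (CharP.pCoreOf_le 2 F')))
  refine iSup₂_le fun F hF => Subgroup.le_centralizer_iff.2 (iSup₂_le fun F' hF' => h F' hF' F hF)

theorem W_comm {x y : G} (hx : x ∈ D.W) (hy : y ∈ D.W) : x * y = y * x :=
  (Subgroup.mem_centralizer_iff.1 (D.W_abelian hx) y hy).symm

theorem W_sq {x : G} (hx : x ∈ D.W) : x * x = 1 := by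
  let S : Subgroup G :=
    { carrier := {y | y ∈ D.W ∧ y * y = 1}
      one_mem' := ⟨one_mem _, one_mul _⟩
      mul_mem' := fun {a b} ⟨ha, ha2⟩ ⟨hb, hb2⟩ => ⟨mul_mem ha hb, by
        rw [show a * b * (a * b) = a * (b * a) * b by group, ← D.W_comm ha hb,
          show a * (a * b) * b = (a * a) * (b * b) by group, ha2, hb2, one_mul]⟩
      inv_mem' := fun {a} ⟨ha, ha2⟩ => ⟨inv_mem ha, by rw [← mul_inv_rev, ha2, inv_one]⟩ }
  have hle : D.W ≤ S := iSup₂_le fun F hF y hy => ⟨D.W1_le_W hF hy, by rw [← sq]; exact W1_pow hy⟩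
  exact (hle hx).2

theorem cj_W {s : G} (hs : s ∈ (T : Subgroup G)) : cj s D.W = D.W := by
  refine Subgroup.eq_of_le_of_card_ge ?_ (Subgroup.card_map_of_injective (K := D.W)
    (show Function.Injective (MulAut.conj s).toMonoidHom from (MulAut.conj s).injective)).ge
  rw [cj, W, Subgroup.map_iSup]
  refine iSup_le fun F => ?_
  rw [Subgroup.map_iSup]
  refine iSup_le fun hF => ?_
  show cj s (W1 2 F) ≤ _
  rw [cj_W1]
  exact le_iSup₂ (f := fun F _ => W1 2 F) _ (D.hconj F hF s hs)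

theorem T_le_normalizer_W : (T : Subgroup G) ≤ Subgroup.normalizer (D.W : Set G) := fun _ hs =>
  Subgroup.mem_normalizer_iff_map_conj_eq.2 (D.cj_W hs)

/-- `W = W₁(F) (W ∩ C(F))`. -/
theorem split {F : Subgroup G} (hF : F ∈ D.𝓑) {w : G} (hw : w ∈ D.W) :
    ∃ u ∈ W1 2 F, ∃ r ∈ D.W ⊓ Subgroup.centralizer (F : Set G), w = u * r := by
  refine exists_mul_of_mem_sup (fun u hu => Subgroup.centralizer_le_normalizer _
    (Subgroup.centralizer_le (inf_le_left (b := Subgroup.centralizer (F : Set G))) (D.W_abelian (D.W1_le_W hF hu)))) ?_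
  refine (iSup₂_le fun F' hF' => ?_ : D.W ≤ W1 2 F ⊔ (D.W ⊓ Subgroup.centralizer (F : Set G))) hw
  rcases eq_or_ne F' F with rfl | hne
  · exact le_sup_left
  · exact le_sup_of_le_right (le_inf (D.W1_le_W hF') (D.W1_le_centralizer hF' hF hne))

/-- The kernel of the component in `W`. -/
def Lh : Subgroup G := D.C.L ⊔ (D.W ⊓ Subgroup.centralizer (D.E : Set G))

theorem Lh_le : D.Lh ≤ D.W := sup_le (D.C.hL.trans (D.W1_le_W D.hE)) inf_le_left

theorem L_normalises : D.C.L ≤ Subgroup.normalizer ((D.W ⊓ Subgroup.centralizer (D.E : Set G) : Subgroup G) : Set G) :=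
  fun u hu => Subgroup.centralizer_le_normalizer _
    (Subgroup.centralizer_le inf_le_left (D.W_abelian (D.W1_le_W D.hE (D.C.hL hu))))

theorem mem_L {u : G} (hu : u ∈ W1 2 D.E) (h : u ∈ D.Lh) : u ∈ D.C.L := by
  obtain ⟨l, hl, r, hr, rfl⟩ := exists_mul_of_mem_sup D.L_normalises h
  refine mul_mem hl (D.C.hZ ⟨?_, hr.2⟩)
  simpa using mul_mem (inv_mem (D.C.hL hl)) hu

variable (hG : Subgroup.centralizer (Cfsg.pCore 2 G : Set G) ≤ Cfsg.pCore 2 G)
include hG

theorem W_le_thompson : D.W ≤ Cfsg.thompsonSubgroupOf 2 (T : Subgroup G) :=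
  iSup₂_le fun F hF => W1_le_thompson hG (D.isBlk hF) (D.hsub F hF) T

theorem W_le : D.W ≤ (T : Subgroup G) := (D.W_le_thompson hG).trans (PGroups.thompsonSubgroupOf_le 2 _)

theorem thompson_le_normalizer {F : Subgroup G} (hF : F ∈ D.𝓑) :
    Cfsg.thompsonSubgroupOf 2 (T : Subgroup G) ≤ Subgroup.normalizer (F : Set G) :=
  Frame.thompson_le hG (D.isBlk hF) (D.hsub F hF)

omit hG in
theorem conj_mem_thompson {s x : G} (hs : s ∈ (T : Subgroup G)) (hx : x ∈ Cfsg.thompsonSubgroupOf 2 (T : Subgroup G)) :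
    s⁻¹ * x * s ∈ Cfsg.thompsonSubgroupOf 2 (T : Subgroup G) :=
  (Subgroup.mem_normalizer_iff''.1 (le_normalizer_thompson T hs) x).1 hx

/-- The elements of `J(T)` moving a component determine its kernel. -/
theorem move {s : G} (hs : s ∈ (T : Subgroup G)) {x : G} (hx : x ∈ Cfsg.thompsonSubgroupOf 2 (T : Subgroup G))
    (hxV : x ∉ Subgroup.centralizer (cj s D.C.V : Set G)) {w : G} (hw : w ∈ D.W)
    (h : ⁅x, w⁆ ∈ Subgroup.centralizer (cj s D.E : Set G)) : w ∈ cj s D.Lh := by
  rw [← cj_centralizer, mem_cj] at hxV h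
  rw [mem_cj]
  set x' := s⁻¹ * x * s
  have hx' : x' ∈ Cfsg.thompsonSubgroupOf 2 (T : Subgroup G) := conj_mem_thompson (T := T) hs hx
  have hw' : s⁻¹ * w * s ∈ D.W := (Subgroup.mem_normalizer_iff''.1 (D.T_le_normalizer_W hs) w).1 hw
  obtain ⟨u, hu, r, hr, e⟩ := D.split D.hE hw'
  rw [e]
  refine mul_mem (Subgroup.mem_sup_left (D.C.move x' hx' hxV u hu ?_)) (Subgroup.mem_sup_right hr)
  have hxE := D.thompson_le_normalizer hG D.hE hx'
  have h1 : ⁅x', u * r⁆ ∈ Subgroup.centralizer (D.E : Set G) := by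
    rw [← e]
    rwa [show ⁅x', s⁻¹ * w * s⁆ = s⁻¹ * ⁅x, w⁆ * s by simp only [x', commutatorElement_def]; group]
  have h2 : ⁅x', u⁆ = ⁅x', u * r⁆ * (u * (x' * r * x'⁻¹ * r⁻¹)⁻¹ * u⁻¹) := by
    simp only [commutatorElement_def]; group
  rw [h2]
  refine mul_mem h1 (conj_mem_centralizer (Subgroup.le_normalizer
    ((CharP.pCoreOf_le 2 D.E) (W1_le_core 2 D.E hu))) (inv_mem (mul_mem (conj_mem_centralizer hxE hr.2)
      (inv_mem hr.2))))

/-- An element of `J(T)` centralising every component centralises `W`. -/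
theorem kerV {x : G} (hx : x ∈ Cfsg.thompsonSubgroupOf 2 (T : Subgroup G))
    (h : ∀ s ∈ (T : Subgroup G), x ∈ Subgroup.centralizer (cj s D.C.V : Set G)) :
    x ∈ Subgroup.centralizer (D.W : Set G) := by
  have hle : D.W ≤ Subgroup.centralizer ({x} : Set G) := iSup₂_le fun F hF => by
    obtain ⟨t, ht, rfl⟩ := D.htrans F hF
    intro u hu
    rw [← cj_W1, mem_cj] at hu
    refine Subgroup.mem_centralizer_singleton_iff.2 ?_
    have h1 := D.C.kerV (t⁻¹ * x * t) (conj_mem_thompson (T := T) ht hx) fun s hs hsN => by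
      have h2 := h (t * s) (mul_mem ht hs)
      rw [← cj_centralizer, mem_cj] at h2 ⊢
      rwa [show s⁻¹ * (t⁻¹ * x * t) * s = (t * s)⁻¹ * x * (t * s) by group]
    have h3 := Subgroup.mem_centralizer_iff.1 h1 _ hu
    calc u * x = t * ((t⁻¹ * u * t) * (t⁻¹ * x * t)) * t⁻¹ := by group
      _ = t * ((t⁻¹ * x * t) * (t⁻¹ * u * t)) * t⁻¹ := by rw [h3]
      _ = x * u := by group
  exact Subgroup.mem_centralizer_iff.2 fun u hu => Subgroup.mem_centralizer_singleton_iff.1 (hle hu)

/-- The intersection of all kernels is centralised by `J(T)`. -/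
theorem kerL {w : G} (hw : w ∈ D.W) (h : ∀ s ∈ (T : Subgroup G), w ∈ cj s D.Lh) :
    w ∈ Subgroup.centralizer (Cfsg.thompsonSubgroupOf 2 (T : Subgroup G) : Set G) := by
  classical
  set C := Subgroup.centralizer (Cfsg.thompsonSubgroupOf 2 (T : Subgroup G) : Set G)
  -- the part in each block is centralised
  have hpart : ∀ F ∈ D.𝓑, ∀ u ∈ W1 2 F, ∀ r ∈ D.W ⊓ Subgroup.centralizer (F : Set G), w = u * r → u ∈ C := by
    intro F hF u hu r hr e
    obtain ⟨t, ht, rfl⟩ := D.htrans F hF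
    rw [← cj_W1, mem_cj] at hu
    have hr' : t⁻¹ * r * t ∈ D.W ⊓ Subgroup.centralizer (D.E : Set G) := by
      refine ⟨(Subgroup.mem_normalizer_iff''.1 (D.T_le_normalizer_W ht) r).1 hr.1, ?_⟩
      have h5 : r ∈ Subgroup.centralizer ((cj t D.E : Subgroup G) : Set G) := hr.2
      rw [← cj_centralizer, mem_cj] at h5
      exact h5
    have h1 : t⁻¹ * u * t ∈ C := D.C.kerL _ hu fun s hs hsN => by
      rw [mem_cj]
      have hsE : s⁻¹ * (t⁻¹ * u * t) * s ∈ W1 2 D.E := by simpa using conj_W1 (inv_mem hsN) hu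
      refine D.mem_L hsE ?_
      have h2 := h (t * s) (mul_mem ht hs)
      rw [mem_cj, e] at h2
      have h3 : s⁻¹ * (t⁻¹ * r * t) * s ∈ D.Lh := Subgroup.mem_sup_right
        ⟨(Subgroup.mem_normalizer_iff''.1 (D.T_le_normalizer_W hs) _).1 hr'.1, by
          simpa using conj_mem_centralizer (inv_mem hsN) hr'.2⟩
      rw [show s⁻¹ * (t⁻¹ * u * t) * s = ((t * s)⁻¹ * (u * r) * (t * s)) * (s⁻¹ * (t⁻¹ * r * t) * s)⁻¹ by group]
      exact mul_mem h2 (inv_mem h3)
    have h4 := conj_mem_centralizer (le_normalizer_thompson T ht) h1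
    rwa [show t * (t⁻¹ * u * t) * t⁻¹ = u by group] at h4
  -- induction over the blocks
  haveI : Fintype (Subgroup G) := Fintype.ofFinite _
  have key : ∀ S : Finset (Subgroup G), (∀ F ∈ S, F ∈ D.𝓑) → ∀ v ∈ S.sup (fun F => W1 2 F),
      (∀ F ∈ S, ∀ u ∈ W1 2 F, ∀ r ∈ D.W ⊓ Subgroup.centralizer (F : Set G), v = u * r → u ∈ C) → v ∈ C := by
    intro S
    induction S using Finset.induction with
    | empty => intro _ v hv _; rw [Finset.sup_empty, Subgroup.mem_bot] at hv; exact hv ▸ one_mem _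
    | insert F S hFS ih =>
      intro hS v hv hdec
      have hF := hS F (Finset.mem_insert_self _ _)
      have hS' : ∀ F' ∈ S, F' ∈ D.𝓑 := fun F' h => hS F' (Finset.mem_insert_of_mem h)
      have hle : S.sup (fun F => W1 2 F) ≤ D.W ⊓ Subgroup.centralizer (F : Set G) := Finset.sup_le fun F' hF' =>
        le_inf (D.W1_le_W (hS' F' hF')) (D.W1_le_centralizer (hS' F' hF') hF fun e => hFS (e ▸ hF'))
      rw [Finset.sup_insert] at hv
      obtain ⟨u, hu, r, hr, rfl⟩ := exists_mul_of_mem_sup (fun u hu => Subgroup.centralizer_le_normalizer _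
        (Subgroup.centralizer_le (fun x hx => (hle hx).1) (D.W_abelian (D.W1_le_W hF hu)))) hv
      refine mul_mem (hdec F (Finset.mem_insert_self _ _) u hu r (hle hr) rfl) (ih hS' r hr ?_)
      intro F' hF' u' hu' r' hr' e'
      refine hdec F' (Finset.mem_insert_of_mem hF') u' hu' (u * r') ⟨mul_mem (D.W1_le_W hF hu) hr'.1,
        mul_mem (D.W1_le_centralizer hF (hS' F' hF') (fun e => hFS (e ▸ hF')) hu) hr'.2⟩ ?_
      rw [e', ← mul_assoc, ← mul_assoc, D.W_comm (D.W1_le_W hF hu) (D.W1_le_W (hS' F' hF') hu')]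
  refine key (Finset.univ.filter (· ∈ D.𝓑)) (fun F hF => (Finset.mem_filter.1 hF).2) w ?_
    fun F hF => hpart F (Finset.mem_filter.1 hF).2
  exact (iSup₂_le fun F hF => Finset.le_sup (f := fun F => W1 2 F) (Finset.mem_filter.2 ⟨Finset.mem_univ _, hF⟩) :
    D.W ≤ _) hw

/-- A subgroup of `J(T)` normalised by `T` and moving `W` moves every component. -/
theorem exists_moving {X : Subgroup G} (hXJ : X ≤ Cfsg.thompsonSubgroupOf 2 (T : Subgroup G))
    (hXN : (T : Subgroup G) ≤ Subgroup.normalizer (X : Set G)) (hX : ¬ X ≤ Subgroup.centralizer (D.W : Set G))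
    {s : G} (hs : s ∈ (T : Subgroup G)) : ∃ x ∈ X, x ∉ Subgroup.centralizer (cj s D.C.V : Set G) := by
  by_contra hcon
  push Not at hcon
  refine hX fun x hx => D.kerV hG (hXJ hx) fun t ht => ?_
  have hg : t * s⁻¹ ∈ (T : Subgroup G) := mul_mem ht (inv_mem hs)
  have h := hcon _ ((Subgroup.mem_normalizer_iff''.1 (hXN hg) x).1 hx)
  rw [← cj_centralizer, mem_cj] at h ⊢
  rwa [show s⁻¹ * ((t * s⁻¹)⁻¹ * x * (t * s⁻¹)) * s = t⁻¹ * x * t by group] at h

/-- Such a subgroup centralises no more of `W` than `J(T)`. -/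
theorem inf_centralizer_le {X : Subgroup G} (hXJ : X ≤ Cfsg.thompsonSubgroupOf 2 (T : Subgroup G))
    (hXN : (T : Subgroup G) ≤ Subgroup.normalizer (X : Set G)) (hX : ¬ X ≤ Subgroup.centralizer (D.W : Set G)) :
    D.W ⊓ Subgroup.centralizer (X : Set G) ≤
      Subgroup.centralizer (Cfsg.thompsonSubgroupOf 2 (T : Subgroup G) : Set G) := by
  intro w hw
  refine D.kerL hG hw.1 fun s hs => ?_
  obtain ⟨x, hx, hxV⟩ := D.exists_moving hG hXJ hXN hX hs
  refine D.move hG hs (hXJ hx) hxV hw.1 ?_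
  rw [commutatorElement_eq_one_iff_mul_comm.2 (Subgroup.mem_centralizer_iff.1 hw.2 x hx)]
  exact one_mem _

theorem thompson_moves : ¬ Cfsg.thompsonSubgroupOf 2 (T : Subgroup G) ≤ Subgroup.centralizer (D.W : Set G) := fun h => by
  obtain ⟨A, hA, hAW⟩ := exists_moving_max hG T (D.hblk D.E D.hE)
  exact hAW (((PGroups.le_thompsonSubgroupOf hA).trans h).trans (Subgroup.centralizer_le (D.W1_le_W D.hE)))

/-- `|J(T) : C(W)| ≤ |W : C(J(T))|`. -/
theorem relIndex_le : (Subgroup.centralizer (D.W : Set G)).relIndex (Cfsg.thompsonSubgroupOf 2 (T : Subgroup G)) ≤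
    (Subgroup.centralizer (Cfsg.thompsonSubgroupOf 2 (T : Subgroup G) : Set G)).relIndex D.W := by
  classical
  set J := Cfsg.thompsonSubgroupOf 2 (T : Subgroup G) with hJ
  set f : ↥(T : Subgroup G) → Subgroup G × Subgroup G := fun s => (cj (s : G) D.C.V, cj (s : G) D.Lh)
  haveI : Fintype (Set.range f) := Fintype.ofFinite _
  choose σ hσ using fun i : Set.range f => i.2
  let K : Set.range f → Subgroup G := fun i => Subgroup.centralizer (i.1.1 : Set G)
  let L : Set.range f → Subgroup G := fun i => i.1.2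
  have hV : ∀ i : Set.range f, i.1.1 ≤ D.W := fun i => by
    rw [← hσ i]
    exact (Subgroup.map_mono (D.C.hV.trans (D.W1_le_W D.hE))).trans (D.cj_W (σ i).2).le
  have hspan : ∀ i : Set.range f, D.W ≤ i.1.1 ⊔ L i := fun i => by
    rw [show L i = i.1.2 from rfl, ← hσ i]
    show D.W ≤ cj _ D.C.V ⊔ cj _ D.Lh
    rw [cj, cj, ← Subgroup.map_sup]
    refine (D.cj_W (σ i).2).ge.trans (Subgroup.map_mono fun w hw => ?_)
    obtain ⟨u, hu, r, hr, rfl⟩ := D.split D.hE hw
    exact mul_mem ((sup_le_sup_left le_sup_left _ : D.C.V ⊔ D.C.L ≤ D.C.V ⊔ D.Lh) (D.C.span hu)) (Subgroup.mem_sup_right (Subgroup.mem_sup_right hr))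
  have hapart : ∀ i k : Set.range f, i ≠ k → i.1.1 ≤ L k := by
    intro i k hik
    set g := (σ k : G)⁻¹ * σ i with hg
    have hgT : g ∈ (T : Subgroup G) := mul_mem (inv_mem (σ k).2) (σ i).2
    have hkey : (cj g D.C.V = D.C.V ∧ cj g D.Lh = D.Lh) ∨ D.C.V ≤ cj g⁻¹ D.Lh ∨ cj g D.C.V ≤ D.Lh := by
      by_cases hgE : cj g D.E = D.E
      · have hgN : g ∈ Subgroup.normalizer (D.E : Set G) := Subgroup.mem_normalizer_iff_map_conj_eq.2 hgE
        rcases D.C.apart g⁻¹ (inv_mem hgT) (inv_mem hgN) with ⟨h1, h2⟩ | h'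
        · refine Or.inl ⟨?_, ?_⟩
          · conv_rhs => rw [← cj_cancel g D.C.V, h1]
          · show cj g (_ ⊔ _) = _
            have e : cj g D.C.L = D.C.L := by conv_rhs => rw [← cj_cancel g D.C.L, h2]
            rw [cj, Subgroup.map_sup, ← cj, ← cj, e, cj_inf, D.cj_W hgT, cj_centralizer, hgE]
            rfl
        · exact Or.inr (Or.inl (h'.trans (Subgroup.map_mono le_sup_left)))
      · refine Or.inr (Or.inr ?_)
        refine (Subgroup.map_mono D.C.hV).trans (le_sup_of_le_right ?_)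
        rw [← cj, cj_W1]
        exact le_inf (D.W1_le_W (D.hconj _ D.hE g hgT)) (D.W1_le_centralizer (D.hconj _ D.hE g hgT) D.hE hgE)
    have hi : i.1 = (cj (σ i : G) D.C.V, cj (σ i : G) D.Lh) := (hσ i).symm
    have hk : k.1 = (cj (σ k : G) D.C.V, cj (σ k : G) D.Lh) := (hσ k).symm
    have hcomp : ∀ H, cj (σ i : G) H = cj (σ k : G) (cj g H) := fun H => by
      rw [cj_cj, hg, mul_inv_cancel_left]
    show i.1.1 ≤ k.1.2
    rw [hi, hk]
    show cj (σ i : G) D.C.V ≤ cj (σ k : G) D.Lh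
    rcases hkey with ⟨h1, h2⟩ | h | h
    · exact absurd (Subtype.ext (by rw [hi, hk, hcomp, hcomp, h1, h2])) hik
    · rw [hcomp]
      exact Subgroup.map_mono ((Subgroup.map_mono h).trans (cj_cancel g D.Lh).le)
    · rw [hcomp]; exact Subgroup.map_mono h
  -- the components of `W`
  have hprod : ∀ S : Finset (Set.range f), ∏ i ∈ S, (L i).relIndex D.W ≤ (D.W ⊓ S.inf L).relIndex D.W := by
    intro S
    induction S using Finset.induction with
    | empty => simp
    | insert k S hkS ih =>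
      rw [Finset.prod_insert hkS, Finset.inf_insert]
      set R := D.W ⊓ S.inf L
      rw [show D.W ⊓ (L k ⊓ S.inf L) = L k ⊓ R from inf_left_comm _ _ _,
        ← Subgroup.relIndex_mul_relIndex (L k ⊓ R) R D.W inf_le_right inf_le_left, Subgroup.inf_relIndex_right]
      refine Nat.mul_le_mul ?_ ih
      have hR : D.W ≤ R ⊔ L k := (hspan k).trans (sup_le_sup_right
        (le_inf (hV k) (Finset.le_inf fun i hi => hapart k i fun e => hkS (e ▸ hi))) _)
      have hRW : R ≤ D.W := inf_le_left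
      refine Nat.card_le_card_of_surjective
        (Subgroup.quotientSubgroupOfEmbeddingOfLE (L k) hRW) fun q => ?_
      induction q using QuotientGroup.induction_on with
      | H w =>
        have hLW : L k ≤ D.W := by
          show k.1.2 ≤ _
          rw [← hσ k]
          exact (Subgroup.map_mono D.Lh_le).trans (D.cj_W (σ k).2).le
        obtain ⟨r, hr, l, hl, e⟩ := exists_mul_of_mem_sup (fun r hr => Subgroup.centralizer_le_normalizer _
          (Subgroup.centralizer_le hLW (D.W_abelian (hRW hr)))) (hR w.2)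
        refine ⟨QuotientGroup.mk ⟨r, hr⟩, ?_⟩
        rw [Subgroup.quotientSubgroupOfEmbeddingOfLE_apply_mk, QuotientGroup.eq, Subgroup.mem_subgroupOf]
        simp only [Subgroup.coe_mul, Subgroup.coe_inv, Subgroup.coe_inclusion]
        rw [e, inv_mul_cancel_left]
        exact hl
  calc _ ≤ (⨅ i, K i).relIndex J := by
        rw [← Subgroup.inf_relIndex_right (⨅ i, K i) J]
        refine Nat.le_of_dvd (Nat.pos_of_ne_zero Subgroup.index_ne_zero_of_finite)
          (Subgroup.relIndex_dvd_of_le_left J fun x hx => D.kerV hG hx.2 fun s hs => ?_)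
        exact Subgroup.mem_iInf.1 hx.1 ⟨f ⟨s, hs⟩, ⟨_, rfl⟩⟩
    _ ≤ ∏ i, (K i).relIndex J := Subgroup.relIndex_iInf_le _
    _ ≤ ∏ i, (L i).relIndex D.W := Finset.prod_le_prod' fun i _ => by
        show (Subgroup.centralizer (i.1.1 : Set G)).relIndex J ≤ (i.1.2).relIndex D.W
        rw [← hσ i]
        show (Subgroup.centralizer (cj _ D.C.V : Set G)).relIndex J ≤ (cj _ D.Lh).relIndex D.W
        rw [← cj_centralizer]
        nth_rw 1 [show J = cj (σ i : G) J from (mem_normalizer_cj (le_normalizer_thompson T (σ i).2)).symm]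
        conv_rhs => rw [← D.cj_W (σ i).2]
        rw [cj, cj, cj, cj, Subgroup.relIndex_map_map_of_injective _ _
            (show Function.Injective (MulAut.conj (σ i : G)).toMonoidHom from (MulAut.conj _).injective),
          Subgroup.relIndex_map_map_of_injective _ _
            (show Function.Injective (MulAut.conj (σ i : G)).toMonoidHom from (MulAut.conj _).injective)]
        refine D.C.card.trans ?_
        have e : D.C.L = D.Lh ⊓ W1 2 D.E :=
          le_antisymm (le_inf le_sup_left D.C.hL) fun u hu => D.mem_L hu.2 hu.1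
        rw [e, Subgroup.inf_relIndex_right]
        exact Subgroup.relIndex_le_of_le_right (D.W1_le_W D.hE) Subgroup.index_ne_zero_of_finite
    _ ≤ _ := hprod Finset.univ
    _ ≤ _ := by
        rw [← Subgroup.inf_relIndex_right (Subgroup.centralizer (J : Set G)) D.W]
        refine Nat.le_of_dvd (Nat.pos_of_ne_zero Subgroup.index_ne_zero_of_finite)
          (Subgroup.relIndex_dvd_of_le_left D.W fun w hw => ⟨hw.2, (Finset.le_inf fun i _ => ?_ :
            Subgroup.centralizer (J : Set G) ⊓ D.W ≤ Finset.univ.inf L) hw⟩)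
        intro z hz
        show z ∈ i.1.2
        rw [← hσ i]
        obtain ⟨x, hx, hxV⟩ := D.exists_moving hG le_rfl (le_normalizer_thompson T) (D.thompson_moves hG) (σ i).2
        refine D.move hG (σ i).2 hx hxV hz.2 ?_
        rw [commutatorElement_eq_one_iff_mul_comm.2 (Subgroup.mem_centralizer_iff.1 hz.1 x hx)]
        exact one_mem _

omit hG in
/-- `a(J(T)) = J(T)`. -/
theorem img_thompson (a : MulAut (T : Subgroup G)) :
    img a (Cfsg.thompsonSubgroupOf 2 (T : Subgroup G)) = Cfsg.thompsonSubgroupOf 2 (T : Subgroup G) :=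
  img_char a (PGroups.thompsonSubgroupOf_le 2 _) thompson_char

omit hG in
theorem img_W_normalised (a : MulAut (T : Subgroup G)) :
    (T : Subgroup G) ≤ Subgroup.normalizer (img a D.W : Set G) := img_normalised a D.T_le_normalizer_W

theorem img_W_le_thompson (a : MulAut (T : Subgroup G)) :
    img a D.W ≤ Cfsg.thompsonSubgroupOf 2 (T : Subgroup G) :=
  (img_mono a (D.W_le_thompson hG)).trans (img_thompson a).le

omit hG in
theorem img_W_comm (a : MulAut (T : Subgroup G)) {x y : G} (hx : x ∈ img a D.W) (hy : y ∈ img a D.W) :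
    x * y = y * x := by
  obtain ⟨h, hh, rfl⟩ := mem_img.1 hx
  obtain ⟨k, hk, rfl⟩ := mem_img.1 hy
  rw [← Subgroup.coe_mul, ← Subgroup.coe_mul, ← map_mul, ← map_mul,
    show h * k = k * h from Subtype.ext (D.W_comm hh hk)]

omit hG in
theorem img_W_sq (a : MulAut (T : Subgroup G)) {x : G} (hx : x ∈ img a D.W) : x * x = 1 := by
  obtain ⟨h, hh, rfl⟩ := mem_img.1 hx
  rw [← Subgroup.coe_mul, ← map_mul, show h * h = 1 from Subtype.ext (D.W_sq hh), map_one]
  rfl

/-- The shape of `J(T)` once `a(W)` moves `W`. -/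
theorem shape {a : MulAut (T : Subgroup G)} (hR : ¬ img a D.W ≤ Subgroup.centralizer (D.W : Set G)) :
    let J := Cfsg.thompsonSubgroupOf 2 (T : Subgroup G)
    img a D.W ⊔ (J ⊓ Subgroup.centralizer (D.W : Set G)) = J ∧
      D.W ⊔ (J ⊓ Subgroup.centralizer (D.W : Set G) ⊓ Subgroup.centralizer (img a D.W : Set G)) =
        J ⊓ Subgroup.centralizer (D.W : Set G) ∧
      img a D.W ⊓ Subgroup.centralizer (D.W : Set G) = img a D.W ⊓ Subgroup.centralizer (J : Set G) ∧
      img a ⁅D.W, J⁆ = ⁅D.W, J⁆ ∧ ⁅D.W, img a D.W⁆ = ⁅D.W, J⁆ := by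
  intro J
  set W := D.W with hWdef
  set X := img a W with hXdef
  have hWT : W ≤ (T : Subgroup G) := D.W_le hG
  have hWJ : W ≤ J := D.W_le_thompson hG
  have hJT : J ≤ (T : Subgroup G) := PGroups.thompsonSubgroupOf_le 2 _
  have hXJ : X ≤ J := D.img_W_le_thompson hG a
  have hXN := D.img_W_normalised a
  -- `C_X(W) = C_X(J)`, by translating
  have hinvW : img a (img a⁻¹ W) = W := img_inv hWT
  have hR' : ¬ img a⁻¹ W ≤ Subgroup.centralizer (W : Set G) := fun h => hR (by
    have h1 := img_mono a (le_inf le_rfl h)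
    rw [hinvW, img_inf_centralizer a _ hWT, hinvW] at h1
    exact Subgroup.le_centralizer_iff.1 (h1.trans inf_le_right))
  have hZ' : W ⊓ Subgroup.centralizer (img a⁻¹ W : Set G) = W ⊓ Subgroup.centralizer (J : Set G) :=
    le_antisymm (le_inf inf_le_left (D.inf_centralizer_le hG (D.img_W_le_thompson hG _) (D.img_W_normalised _) hR'))
      (inf_le_inf_left _ (Subgroup.centralizer_le (D.img_W_le_thompson hG _)))
  have hXW : X ⊓ Subgroup.centralizer (W : Set G) = X ⊓ Subgroup.centralizer (J : Set G) := by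
    have h := congrArg (img a) hZ'
    rwa [img_inf_centralizer a _ (img_le _ _), hinvW, img_inf_centralizer a _ hJT, img_thompson] at h
  have hWX : W ⊓ Subgroup.centralizer (X : Set G) = W ⊓ Subgroup.centralizer (J : Set G) :=
    le_antisymm (le_inf inf_le_left (D.inf_centralizer_le hG hXJ hXN hR))
      (inf_le_inf_left _ (Subgroup.centralizer_le hXJ))
  set N := (Subgroup.centralizer (J : Set G)).relIndex W
  have hM : (Subgroup.centralizer (W : Set G)).relIndex J ≤ N := D.relIndex_le hG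
  have hJa : img a J = J := img_thompson a
  have hNX : (Subgroup.centralizer (W : Set G)).relIndex X = N :=
    calc _ = (X ⊓ Subgroup.centralizer (W : Set G)).relIndex X := by rw [inf_comm, Subgroup.inf_relIndex_right]
      _ = (img a (W ⊓ Subgroup.centralizer (J : Set G))).relIndex (img a W) := by
          rw [hXW, img_inf_centralizer a W hJT, hJa]
      _ = N := by rw [img_relIndex a _ hWT, inf_comm, Subgroup.inf_relIndex_right]
  have hne : ∀ {A B : Subgroup G}, A.relIndex B ≠ 0 := fun {A B} => Subgroup.index_ne_zero_of_finite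
  have h1 : X ⊔ (J ⊓ Subgroup.centralizer (W : Set G)) = J :=
    eq_of_relIndex (C := Subgroup.centralizer (W : Set G)) (sup_le hXJ inf_le_left)
      (le_sup_of_le_right (le_inf inf_le_right inf_le_left))
      (hM.trans (hNX.ge.trans (Subgroup.relIndex_le_of_le_right le_sup_left hne)))
  have hWN : (Subgroup.centralizer (X : Set G)).relIndex W = N := by
    rw [← Subgroup.inf_relIndex_right, inf_comm, hWX, inf_comm, Subgroup.inf_relIndex_right]
  have hMX : (Subgroup.centralizer (X : Set G)).relIndex J ≤ N := le_of_eq_of_le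
    (calc (Subgroup.centralizer (X : Set G)).relIndex J = (J ⊓ Subgroup.centralizer (X : Set G)).relIndex J := by
            rw [inf_comm, Subgroup.inf_relIndex_right]
      _ = (img a (J ⊓ Subgroup.centralizer (W : Set G))).relIndex (img a J) := by
          rw [img_inf_centralizer a J hWT, hJa]
      _ = _ := by rw [img_relIndex a _ hJT, inf_comm, Subgroup.inf_relIndex_right]) hM
  have h2 : W ⊔ (J ⊓ Subgroup.centralizer (W : Set G) ⊓ Subgroup.centralizer (X : Set G)) =
      J ⊓ Subgroup.centralizer (W : Set G) :=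
    eq_of_relIndex (C := Subgroup.centralizer (X : Set G))
      (sup_le (le_inf hWJ D.W_abelian) inf_le_left) (le_sup_of_le_right (le_inf inf_le_right inf_le_left))
      ((Subgroup.relIndex_le_of_le_right inf_le_left hne).trans
        (hMX.trans (hWN.ge.trans (Subgroup.relIndex_le_of_le_right le_sup_left hne))))
  have h3 : ⁅W, X⁆ = ⁅W, J⁆ := by
    refine le_antisymm (Subgroup.commutator_mono le_rfl hXJ) (Subgroup.commutator_le.2 fun w hw j hj => ?_)
    obtain ⟨x, hx, c, hc, rfl⟩ := exists_mul_of_mem_sup (hXJ.trans fun g hg => Baumann.mem_normalizer_of_forall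
      fun c (hc : c ∈ J ⊓ Subgroup.centralizer (W : Set G)) => Subgroup.mem_inf.2
        ⟨mul_mem (mul_mem hg hc.1) (inv_mem hg), conj_mem_centralizer (D.T_le_normalizer_W (hJT hg)) hc.2⟩)
      (h1.ge hj)
    have hwc : ⁅w, c⁆ = 1 :=
      commutatorElement_eq_one_iff_mul_comm.2 (Subgroup.mem_centralizer_iff.1 hc.2 w hw)
    rw [show ⁅w, x * c⁆ = ⁅w, x⁆ * (x * ⁅w, c⁆ * x⁻¹) by simp only [commutatorElement_def]; group, hwc, mul_one,
      mul_inv_cancel, mul_one]
    exact Subgroup.commutator_mem_commutator hw hx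
  refine ⟨h1, h2, hXW, ?_, h3⟩
  have hle : ⁅W, J⁆ ≤ img a ⁅W, J⁆ := by
    rw [img_commutator a hWT hJT, img_thompson, ← h3, ← hXdef, Subgroup.commutator_comm]
    exact Subgroup.commutator_mono le_rfl hWJ
  refine (Subgroup.eq_of_le_of_card_ge hle (img_card a ?_).le).symm
  exact (Subgroup.commutator_mono hWT hJT).trans (Subgroup.commutator_le.2 fun x hx y hy => by
    rw [commutatorElement_def]; exact mul_mem (mul_mem (mul_mem hx hy) (inv_mem hx)) (inv_mem hy))

/-- The squares of the elements of `J(T) ∩ C(W)` that lie in `W` are centralised by the blocks. -/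
theorem sq_centralised {d : G} (hd : d ∈ Cfsg.thompsonSubgroupOf 2 (T : Subgroup G))
    (hdW : d ∈ Subgroup.centralizer (D.W : Set G)) {F : Subgroup G} (hF : F ∈ D.𝓑) :
    d * d ∈ Subgroup.centralizer (F : Set G) := by
  refine Subgroup.mem_centralizer_iff.2 fun e he => ?_
  have hdF := D.thompson_le_normalizer hG hF hd
  have h := comm_mem_core (D.isBlk hF) hdF
    (Subgroup.centralizer_le (D.W1_le_W hF) hdW) he
  rw [core_eq_W1 (D.isBlk hF)] at h
  have hu : d * e * d⁻¹ * e⁻¹ ∈ D.W := D.W1_le_W hF h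
  set u := d * e * d⁻¹ * e⁻¹ with hudef
  have hde : d * e * d⁻¹ = u * e := by rw [hudef]; group
  have h2 : d * d * e * (d * d)⁻¹ = e := by
    rw [show d * d * e * (d * d)⁻¹ = d * (d * e * d⁻¹) * d⁻¹ by group, hde,
      show d * (u * e) * d⁻¹ = d * u * d⁻¹ * (d * e * d⁻¹) by group, hde,
      ← Subgroup.mem_centralizer_iff.1 hdW u hu, mul_inv_cancel_right, ← mul_assoc, D.W_sq hu, one_mul]
  exact (mul_inv_eq_iff_eq_mul.1 h2).symm

/-- Two subgroups moving `W` commute when one is an image of `W`. -/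
theorem commute {a : MulAut (T : Subgroup G)} (hR : ¬ img a D.W ≤ Subgroup.centralizer (D.W : Set G))
    {Y : Subgroup G} (hYJ : Y ≤ Cfsg.thompsonSubgroupOf 2 (T : Subgroup G))
    (hYN : (T : Subgroup G) ≤ Subgroup.normalizer (Y : Set G)) (hYsq : ∀ y ∈ Y, y * y = 1)
    (hY : ¬ Y ≤ Subgroup.centralizer (D.W : Set G)) :
    Y ≤ Subgroup.centralizer (img a D.W : Set G) := by
  obtain ⟨h1, h2, hXW, -, -⟩ := D.shape hG hR
  set J := Cfsg.thompsonSubgroupOf 2 (T : Subgroup G)
  set W := D.W with hWdef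
  set X := img a W with hXdef
  set DD := J ⊓ Subgroup.centralizer (W : Set G) ⊓ Subgroup.centralizer (X : Set G)
  have hJT : J ≤ (T : Subgroup G) := PGroups.thompsonSubgroupOf_le 2 _
  have hXJ : X ≤ J := D.img_W_le_thompson hG a
  have hXN := D.img_W_normalised a
  have hZD : W ⊓ Subgroup.centralizer (J : Set G) ≤ DD := fun z hz =>
    ⟨⟨D.W_le_thompson hG hz.1, D.W_abelian hz.1⟩, Subgroup.centralizer_le hXJ hz.2⟩
  have hxw : ∀ {x w}, x ∈ X → w ∈ W → ⁅x, w⁆ ∈ DD := fun {x w} hx hw => by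
    have hW' : ⁅x, w⁆ ∈ W := by
      rw [commutatorElement_def]
      exact mul_mem ((Subgroup.mem_normalizer_iff.1 (D.T_le_normalizer_W (img_le _ _ hx)) w).1 hw) (inv_mem hw)
    have hX' : ⁅x, w⁆ ∈ X := by
      rw [commutatorElement_def, mul_assoc, mul_assoc]
      refine mul_mem hx ?_
      rw [← mul_assoc]
      exact (Subgroup.mem_normalizer_iff.1 (hXN (D.W_le hG hw)) _).1 (inv_mem hx)
    exact hZD ⟨hW', (hXW.le ⟨hX', D.W_abelian hW'⟩).2⟩
  have hdec : ∀ y ∈ J, ∃ x ∈ X, ∃ w ∈ W, ∃ d ∈ DD, y = x * (w * d) := fun y hy => by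
    obtain ⟨x, hx, c, hc, rfl⟩ := exists_mul_of_mem_sup (hXJ.trans fun g hg => Baumann.mem_normalizer_of_forall
      fun c (hc : c ∈ J ⊓ Subgroup.centralizer (W : Set G)) => Subgroup.mem_inf.2
        ⟨mul_mem (mul_mem hg hc.1) (inv_mem hg), conj_mem_centralizer (D.T_le_normalizer_W (hJT hg)) hc.2⟩)
      (h1.ge hy)
    obtain ⟨w, hw, d, hd, rfl⟩ := exists_mul_of_mem_sup (fun w hw => Subgroup.centralizer_le_normalizer _
      (Subgroup.mem_centralizer_iff.2 fun d (hd : d ∈ DD) => (Subgroup.mem_centralizer_iff.1 hd.1.2 w hw).symm)) (h2.ge hc)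
    exact ⟨x, hx, w, hw, d, hd, rfl⟩
  intro y hy
  obtain ⟨x, hx, w, hw, d, hd, rfl⟩ := hdec y (hYJ hy)
  suffices hwZ : w ∈ Subgroup.centralizer (J : Set G) by
    refine Subgroup.mem_centralizer_iff.2 fun x' hx' => ?_
    have e1 : x' * x = x * x' := D.img_W_comm a hx' hx
    have e2 : x' * w = w * x' := Subgroup.mem_centralizer_iff.1 hwZ x' (hXJ hx')
    have e3 : x' * d = d * x' := Subgroup.mem_centralizer_iff.1 hd.2 x' hx'
    exact ((Commute.mul_right e1 (Commute.mul_right e2 e3)) : Commute x' (x * (w * d))).eq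
  refine D.kerL hG hw fun s hs => ?_
  -- the part of `Y` whose decomposition lies in the kernel
  set L := cj s D.Lh with hL
  have hLW : L ≤ W := (Subgroup.map_mono D.Lh_le).trans (D.cj_W hs).le
  set Q := DD ⊔ L
  have hXQ : X ≤ Subgroup.normalizer (Q : Set G) := by
    intro g hg
    refine Baumann.mem_normalizer_of_forall fun q hq => ?_
    obtain ⟨d', hd', l, hl, rfl⟩ := exists_mul_of_mem_sup (fun d' (hd' : d' ∈ DD) => Subgroup.centralizer_le_normalizer _
      (Subgroup.centralizer_le hLW hd'.1.2)) hq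
    have e3 : g * d' = d' * g := Subgroup.mem_centralizer_iff.1 hd'.2 g hg
    rw [show g * (d' * l) * g⁻¹ = (g * d') * g⁻¹ * (⁅g, l⁆ * l) by simp only [commutatorElement_def]; group, e3,
      mul_inv_cancel_right]
    exact mul_mem (Subgroup.mem_sup_left hd') (mul_mem (Subgroup.mem_sup_left (hxw hg (hLW hl)))
      (Subgroup.mem_sup_right hl))
  set K := Subgroup.centralizer (cj s D.C.V : Set G)
  have hKW : Subgroup.centralizer (W : Set G) ≤ K := Subgroup.centralizer_le
    ((Subgroup.map_mono (D.C.hV.trans (D.W1_le_W D.hE))).trans (D.cj_W hs).le)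
  have hor : ∀ y' ∈ Y, y' ∈ K ∨ y' ∈ X ⊔ Q := fun y' hy' => by
    obtain ⟨x', hx', w', hw', d', hd', rfl⟩ := hdec y' (hYJ hy')
    by_cases hxK : x' ∈ K
    · exact Or.inl (mul_mem hxK (hKW (mul_mem (D.W_abelian hw') hd'.1.2)))
    right
    refine mul_mem (Subgroup.mem_sup_left hx') (Subgroup.mem_sup_right (mul_mem (Subgroup.mem_sup_right ?_)
      (Subgroup.mem_sup_left hd')))
    refine D.move hG hs (hXJ hx') hxK hw' ?_
    -- the commutator is the inverse of a square
    have e3 : Commute d' x' := (Subgroup.mem_centralizer_iff.1 hd'.2 x' hx').symm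
    have e4 : Commute d' w' := (Subgroup.mem_centralizer_iff.1 hd'.1.2 w' hw').symm
    have hsq := hYsq _ hy'
    rw [show x' * (w' * d') * (x' * (w' * d')) = x' * w' * x' * w' * (d' * d') by
      rw [show x' * (w' * d') * (x' * (w' * d')) = x' * w' * (d' * (x' * w')) * d' by group,
        (e3.mul_right e4).eq]
      group] at hsq
    have hx2 : x'⁻¹ = x' := inv_eq_of_mul_eq_one_right (D.img_W_sq a hx')
    have hw2 : w'⁻¹ = w' := inv_eq_of_mul_eq_one_right (D.W_sq hw')
    rw [commutatorElement_def, hx2, hw2, eq_inv_of_mul_eq_one_left hsq]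
    exact inv_mem (D.sq_centralised hG hd'.1.1 hd'.1.2 (D.hconj _ D.hE s hs))
  obtain ⟨y1, hy1, hy1K⟩ := D.exists_moving hG hYJ hYN hY hs
  have hyQ : x * (w * d) ∈ X ⊔ Q := by
    rcases hor _ hy with hK | h
    · rcases hor _ (mul_mem hy hy1) with h | h
      · exact absurd (inv_mul_cancel_left (x * (w * d)) y1 ▸ mul_mem (inv_mem hK) h) hy1K
      · have h' := mul_mem h (inv_mem ((hor y1 hy1).resolve_left hy1K))
        rwa [mul_inv_cancel_right] at h'
    · exact h
  obtain ⟨x'', hx'', q, hq, e⟩ := exists_mul_of_mem_sup hXQ hyQ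
  obtain ⟨d', hd', l, hl, rfl⟩ := exists_mul_of_mem_sup (fun d' (hd' : d' ∈ DD) => Subgroup.centralizer_le_normalizer _
      (Subgroup.centralizer_le hLW hd'.1.2)) hq
  have hdw : Commute d w := (Subgroup.mem_centralizer_iff.1 hd.1.2 w hw).symm
  have hz : x''⁻¹ * x = d' * (l * w⁻¹) * d⁻¹ := by
    rw [show x = x'' * (d' * l) * d⁻¹ * w⁻¹ by rw [← e]; group]
    rw [show x''⁻¹ * (x'' * (d' * l) * d⁻¹ * w⁻¹) = d' * l * (d⁻¹ * w⁻¹) by group, (hdw.inv_inv).eq]
    group
  have hzW : x''⁻¹ * x ∈ Subgroup.centralizer (W : Set G) := by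
    rw [hz]
    exact mul_mem (mul_mem hd'.1.2 (mul_mem (D.W_abelian (hLW hl)) (inv_mem (D.W_abelian hw)))) (inv_mem hd.1.2)
  have hzX : x''⁻¹ * x ∈ Subgroup.centralizer (X : Set G) :=
    Subgroup.mem_centralizer_iff.2 fun x' hx' => D.img_W_comm a hx' (mul_mem (inv_mem hx'') hx)
  have hlw : l * w⁻¹ ∈ Subgroup.centralizer (X : Set G) := by
    rw [show l * w⁻¹ = d'⁻¹ * (x''⁻¹ * x) * d by rw [hz]; group]
    exact mul_mem (mul_mem (inv_mem hd'.2) hzX) hd.2
  obtain ⟨x1, hx1, hx1K⟩ := D.exists_moving hG hXJ hXN hR hs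
  have hmem : l * w⁻¹ ∈ L := D.move hG hs (hXJ hx1) hx1K (mul_mem (hLW hl) (inv_mem hw)) (by
    rw [commutatorElement_eq_one_iff_mul_comm.2 (Subgroup.mem_centralizer_iff.1 hlw x1 hx1)]
    exact one_mem _)
  have := mul_mem (inv_mem hmem) hl
  rwa [mul_inv_rev, inv_inv, inv_mul_cancel_right] at this

/-- No automorphism of odd order takes `W` to a subgroup moving it. -/
theorem le_centralizer_of_odd (a : MulAut (T : Subgroup G)) (ha : Odd (orderOf a)) :
    img a D.W ≤ Subgroup.centralizer (D.W : Set G) := by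
  by_contra hR
  have hWT := D.W_le hG
  set J := Cfsg.thompsonSubgroupOf 2 (T : Subgroup G)
  obtain ⟨-, -, -, hinv, hcomm⟩ := D.shape hG hR
  have hWJT : ⁅D.W, J⁆ ≤ (T : Subgroup G) :=
    (Subgroup.commutator_mono hWT (PGroups.thompsonSubgroupOf_le 2 _)).trans (Subgroup.commutator_le.2 fun x hx y hy => by
      rw [commutatorElement_def]; exact mul_mem (mul_mem (mul_mem hx hy) (inv_mem hx)) (inv_mem hy))
  have hinvk : ∀ k : ℕ, img (a ^ k) ⁅D.W, J⁆ = ⁅D.W, J⁆ := fun k => by
    induction k with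
    | zero => rw [pow_zero, img_one hWJT]
    | succ k ih => rw [pow_succ, img_mul, hinv, ih]
  have hconsec : ∀ k : ℕ, ⁅img (a ^ k) D.W, img (a ^ (k + 1)) D.W⁆ = ⁅D.W, J⁆ ∧
      ¬ img (a ^ (k + 1)) D.W ≤ Subgroup.centralizer (img (a ^ k) D.W : Set G) := fun k => by
    have e : ⁅img (a ^ k) D.W, img (a ^ (k + 1)) D.W⁆ = ⁅D.W, J⁆ := by
      rw [pow_succ, img_mul, ← img_commutator (a ^ k) hWT (img_le _ _), hcomm, hinvk]
    refine ⟨e, fun h => ?_⟩
    have h0 : ⁅D.W, J⁆ = ⊥ := e ▸ Subgroup.commutator_eq_bot_iff_le_centralizer.2 (Subgroup.le_centralizer_iff.1 h)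
    exact D.thompson_moves hG (Subgroup.le_centralizer_iff.1 (Subgroup.commutator_eq_bot_iff_le_centralizer.1 h0))
  have halt : ∀ j : ℕ, img (a ^ (2 * j)) D.W ≤ Subgroup.centralizer (D.W : Set G) ∧
      ¬ img (a ^ (2 * j + 1)) D.W ≤ Subgroup.centralizer (D.W : Set G) := fun j => by
    induction j with
    | zero =>
      rw [mul_zero, pow_zero, img_one hWT, zero_add, pow_one]
      exact ⟨D.W_abelian, hR⟩
    | succ j ih =>
      have heven : img (a ^ (2 * (j + 1))) D.W ≤ Subgroup.centralizer (D.W : Set G) := by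
        by_contra h
        refine (hconsec (2 * j + 1)).2 ?_
        exact D.commute hG ih.2 (D.img_W_le_thompson hG _) (D.img_W_normalised _)
          (fun y hy => D.img_W_sq _ hy) h
      refine ⟨heven, fun hodd => ?_⟩
      obtain ⟨A, hA, hAW⟩ := exists_moving_max hG T (D.hblk D.E D.hE)
      refine hAW fun x hx => centralises_of_mod (D.isBlk D.hE) (maxElemAb_le hG (D.isBlk D.hE) (D.hsub _ D.hE) T hA hx)
        fun u hu => ?_
      have hmem : ⁅u, x⁆ ∈ ⁅D.W, J⁆ :=
        Subgroup.commutator_mem_commutator (D.W1_le_W D.hE hu) (PGroups.le_thompsonSubgroupOf hA hx)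
      rw [← (hconsec (2 * (j + 1))).1] at hmem
      rw [← commutatorElement_inv]
      refine inv_mem ((Subgroup.commutator_le.2 fun p hp q hq => ?_) hmem)
      exact comm_centralises (D.isBlk D.hE) (D.thompson_le_normalizer hG D.hE (D.img_W_le_thompson hG _ hp))
        (D.thompson_le_normalizer hG D.hE (D.img_W_le_thompson hG _ hq))
        (Subgroup.centralizer_le (D.W1_le_W D.hE) (heven hp)) (Subgroup.centralizer_le (D.W1_le_W D.hE) (hodd hq))
  obtain ⟨j, hj⟩ := ha
  refine (halt j).2 ?_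
  rw [← hj, pow_orderOf_eq_one, img_one hWT]
  exact D.W_abelian

/-- The join of the images of `W` under a group of automorphisms of odd order is normal in the group generated by `T`
and the blocks. -/
theorem exists_invariant (hgen : sSup D.𝓑 ⊔ (T : Subgroup G) = ⊤) (A : Subgroup (MulAut ↥(T : Subgroup G)))
    (hA : Odd (Nat.card A)) : ∃ U : Subgroup G, U ≠ ⊥ ∧ U.Normal ∧ U ≤ (T : Subgroup G) ∧
      ∀ a ∈ A, ∀ x : ↥(T : Subgroup G), (x : G) ∈ U → ((a x : ↥(T : Subgroup G)) : G) ∈ U := by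
  have hWT := D.W_le hG
  set U := ⨆ a : A, img (a : MulAut (T : Subgroup G)) D.W with hU
  have hWU : D.W ≤ U := by
    refine le_trans ?_ (le_iSup (fun a : A => img (a : MulAut (T : Subgroup G)) D.W) 1)
    rw [OneMemClass.coe_one, img_one hWT]
  have hodd : ∀ a : A, Odd (orderOf (a : MulAut (T : Subgroup G))) := fun a => by
    rw [Subgroup.orderOf_coe]; exact hA.of_dvd_nat (orderOf_dvd_natCard a)
  have hUT : U ≤ (T : Subgroup G) := iSup_le fun a => img_le _ _
  have hUJ : U ≤ Cfsg.thompsonSubgroupOf 2 (T : Subgroup G) := iSup_le fun a => D.img_W_le_thompson hG _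
  have hUC : U ≤ Subgroup.centralizer (D.W : Set G) := iSup_le fun a => D.le_centralizer_of_odd hG _ (hodd a)
  refine ⟨U, fun h => ?_, ?_, hUT, fun a ha x hx => ?_⟩
  · exact not_centralised (D.isBlk D.hE) (((D.W1_le_W D.hE).trans hWU).trans (h.le.trans bot_le))
  · refine Subgroup.normalizer_eq_top_iff.1 (top_le_iff.1 (hgen.ge.trans (sup_le (sSup_le fun F hF e he => ?_) ?_)))
    · refine Baumann.mem_normalizer_of_forall fun u hu => ?_
      have h := comm_mem_core (D.isBlk hF) (D.thompson_le_normalizer hG hF (hUJ hu))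
        (Subgroup.centralizer_le (D.W1_le_W hF) (hUC hu)) he
      rw [core_eq_W1 (D.isBlk hF)] at h
      have h' := mul_mem (inv_mem (hWU (D.W1_le_W hF h))) hu
      rwa [show ⁅u, e⁆⁻¹ * u = e * u * e⁻¹ by simp only [commutatorElement_def]; group] at h'
    · intro t ht
      refine Subgroup.mem_normalizer_iff_map_conj_eq.2 (Subgroup.eq_of_le_of_card_ge ?_ (Subgroup.card_map_of_injective
        (K := U) (show Function.Injective (MulAut.conj t).toMonoidHom from (MulAut.conj t).injective)).ge)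
      rw [hU, Subgroup.map_iSup]
      exact iSup_le fun a => le_trans (mem_normalizer_cj (D.img_W_normalised _ ht)).le
        (le_iSup (fun a : A => img (a : MulAut (T : Subgroup G)) D.W) a)
  · have key : U ≤ ((U.subgroupOf (T : Subgroup G)).comap a.toMonoidHom).map (T : Subgroup G).subtype :=
      iSup_le fun b z hz => by
        obtain ⟨h, hh, rfl⟩ := mem_img.1 hz
        refine ⟨_, ?_, rfl⟩
        show ((a ((b : MulAut (T : Subgroup G)) h) : (T : Subgroup G)) : G) ∈ U
        exact le_iSup (fun b : A => img (b : MulAut (T : Subgroup G)) D.W) (⟨a, ha⟩ * b)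
          (mem_img.2 ⟨h, hh, rfl⟩)
    obtain ⟨x', hx', e⟩ := key hx
    obtain rfl := Subtype.ext e
    exact hx'

end Family

end Cfsg.Agent.Lib.CGT57
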