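import Cfsg.Prelude.Def_LocalEven
import Cfsg.Agent.Lib.CGT57.OddAut

/-!
# Pushing up odd automorphisms from pushing up in minimal parabolic groups
-/

set_option autoImplicit false
set_option linter.style.haveILetI false
set_option linter.unusedSectionVars false
set_option linter.unusedVariables false

open Cfsg
open scoped commutatorElement Pointwise

namespace Cfsg.Agent.Lib.CGT57

open Cfsg.Agent.Lib.LAEven57.Blocks

universe u

/-- The statement of pushing up for minimal parabolic groups. -/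
def PMinimalTheorem : Prop :=
  ∀ {G : Type u} [Group G] [Finite G] {p : ℕ} [Fact p.Prime], Cfsg.IsPMinimal p G →
    Subgroup.centralizer (Cfsg.pCore p G : Set G) ≤ Cfsg.pCore p G → ∀ T : Sylow p G,
      (∀ C : Subgroup G, C ≤ Cfsg.baumannSubgroupOf p (T : Subgroup G) → C ≠ ⊥ →
        (C.subgroupOf (Cfsg.baumannSubgroupOf p (T : Subgroup G))).Characteristic → ¬ C.Normal) →
      ¬ (Cfsg.omegaOneCenter p (T : Subgroup G)).Normal →
        ∃ 𝓑 : Set (Subgroup G), Cfsg.HasBaumannBlockStructure p (T : Subgroup G) 𝓑 ∧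
          (∀ E ∈ 𝓑, ∀ m : ℕ, Nonempty (↥E ⧸ Cfsg.pCore p ↥E ≃* ↥(alternatingGroup (Fin (2 * m + 1)))) →
            ∃ n : ℕ, 2 * m + 1 = 2 ^ n + 1) ∧
          Cfsg.cStarOf p (T : Subgroup G) = (Cfsg.cStarOf p (T : Subgroup G) ⊓ sSup 𝓑) ⊔ (T : Subgroup G)

variable {G : Type u} [Group G] [Finite G]

/-- A proper stable subfamily does not generate the group with `T`. -/
theorem not_generate {T : Sylow 2 G} {O : Set (Subgroup G)} {F : Subgroup G} (hF : IsBlk 2 F)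
    (hOT : ∀ H ∈ O, ∀ s ∈ (T : Subgroup G), cj s H ∈ O) (hcomm : ∀ H ∈ O, ⁅H, F⁆ = ⊥) :
    sSup O ⊔ (T : Subgroup G) ≠ ⊤ := by
  intro htop
  set N := sSup O
  have hTN : (T : Subgroup G) ≤ Subgroup.normalizer (N : Set G) := fun s hs => by
    refine Subgroup.mem_normalizer_iff_map_conj_eq.2 (Subgroup.eq_of_le_of_card_ge ?_ (Subgroup.card_map_of_injective
      (K := N) (show Function.Injective (MulAut.conj s).toMonoidHom from (MulAut.conj s).injective)).ge)
    rw [(Subgroup.gc_map_comap _).l_sSup]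
    exact iSup₂_le fun H hH => le_sSup (hOT H hH s hs)
  haveI : N.Normal := Subgroup.normalizer_eq_top_iff.1
    (top_le_iff.1 (htop.ge.trans (sup_le Subgroup.le_normalizer hTN)))
  have hN : F ≤ N := by
    rw [← (facts hF).1, Baumann.pResidualOf_eq_closure, Subgroup.closure_le]
    rintro x ⟨-, hx⟩
    obtain ⟨n, hn, t, ht, rfl⟩ : ∃ n ∈ N, ∃ t ∈ (T : Subgroup G), x = n * t :=
      exists_mul_of_mem_sup' (htop.ge (Subgroup.mem_top x))
    rw [SetLike.mem_coe, ← QuotientGroup.eq_one_iff (N := N), ← orderOf_eq_one_iff]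
    obtain ⟨k, hk⟩ := IsPGroup.iff_orderOf.1 T.isPGroup' ⟨t, ht⟩
    rw [Subgroup.orderOf_mk] at hk
    have h1 : orderOf ((n * t : G) : G ⧸ N) ∣ orderOf (n * t) := orderOf_map_dvd (QuotientGroup.mk' N) _
    have h2 : orderOf ((n * t : G) : G ⧸ N) ∣ 2 ^ k := by
      rw [QuotientGroup.mk_mul, (QuotientGroup.eq_one_iff n).2 hn, one_mul, ← hk]
      exact orderOf_map_dvd (QuotientGroup.mk' N) _
    exact Nat.eq_one_of_dvd_coprimes (Nat.Coprime.pow_right k hx) h1 h2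
  have hNC : N ≤ Subgroup.centralizer (F : Set G) := sSup_le fun H hH =>
    Subgroup.commutator_eq_bot_iff_le_centralizer.1 (hcomm H hH)
  exact not_centralised hF (((W1_le_core 2 F).trans (CharP.pCoreOf_le 2 F)).trans (hN.trans hNC))
where
  exists_mul_of_mem_sup' {N : Subgroup G} [N.Normal] {H : Subgroup G} {x : G} (h : x ∈ N ⊔ H) :
      ∃ n ∈ N, ∃ t ∈ H, x = n * t := by
    rw [← SetLike.mem_coe, Subgroup.normal_mul] at h
    obtain ⟨n, hn, t, ht, e⟩ := h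
    exact ⟨n, hn, t, ht, e.symm⟩

/-- Pushing up odd automorphisms. -/
theorem pushOdd (H : PMinimalTheorem.{u})
    (hirr : ∀ S : Sylow 2 G, ∃! M : Subgroup G, IsCoatom M ∧ (S : Subgroup G) ≤ M)
    (hG : Subgroup.centralizer (Cfsg.pCore 2 G : Set G) ≤ Cfsg.pCore 2 G) (S : Sylow 2 G)
    (A : Subgroup (MulAut ↥(S : Subgroup G))) (hA : Odd (Nat.card A)) :
    ∃ U : Subgroup G, U ≠ ⊥ ∧ U.Normal ∧ U ≤ (S : Subgroup G) ∧
      ∀ a ∈ A, ∀ x : ↥(S : Subgroup G), (x : G) ∈ U → ((a x : ↥(S : Subgroup G)) : G) ∈ U := by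
  have hchar : ∀ C : Subgroup G, C ≤ (S : Subgroup G) → (C.subgroupOf (S : Subgroup G)).Characteristic →
      ∀ a ∈ A, ∀ x : ↥(S : Subgroup G), (x : G) ∈ C → ((a x : ↥(S : Subgroup G)) : G) ∈ C :=
    fun C hC hc a _ x hx => Subgroup.mem_subgroupOf.1 (Subgroup.characteristic_iff_le_comap.1 hc a hx)
  have hS1 : (S : Subgroup G) ≠ ⊥ := fun h => by
    obtain ⟨M, ⟨hM, -⟩, -⟩ := hirr S
    refine hM.1 (top_le_iff.1 fun g _ => ?_)
    have hbot : Cfsg.pCore 2 G = ⊥ := le_bot_iff.1 (h ▸ Cores.pCore_le_sylow S)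
    have hg := hG (Subgroup.mem_centralizer_iff.2 fun x hx => by
      rw [show x = 1 from Subgroup.mem_bot.1 (hbot ▸ hx)]; simp : g ∈ Subgroup.centralizer (Cfsg.pCore 2 G : Set G))
    rw [show g = 1 from Subgroup.mem_bot.1 (hbot ▸ hg)]
    exact one_mem _
  by_cases hSn : (S : Subgroup G).Normal
  · exact ⟨S, hS1, hSn, le_rfl, fun a _ x _ => (a x).2⟩
  have hmin : Cfsg.IsPMinimal 2 G := fun S' => ⟨fun h => hSn (by
    obtain ⟨g, hg⟩ := MulAction.exists_smul_eq G S' S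
    rw [← hg, Sylow.coe_subgroup_smul]
    exact Subgroup.Normal.map h _ (MulAut.conj g).surjective), hirr S'⟩
  by_cases hC : ∃ C : Subgroup G, C ≤ Cfsg.baumannSubgroupOf 2 (S : Subgroup G) ∧ C ≠ ⊥ ∧
      (C.subgroupOf (Cfsg.baumannSubgroupOf 2 (S : Subgroup G))).Characteristic ∧ C.Normal
  · obtain ⟨C, h1, h2, h3, h4⟩ := hC
    exact ⟨C, h2, h4, h1.trans inf_le_left,
      hchar C (h1.trans inf_le_left) (char_trans h1 baumann_char inf_le_left h3)⟩
  by_cases hz : (Cfsg.omegaOneCenter 2 (S : Subgroup G)).Normal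
  · refine ⟨_, ?_, hz, (PGroups.omegaOne_le 2 _).trans inf_le_left,
      hchar _ ((PGroups.omegaOne_le 2 _).trans inf_le_left) omegaOneCenter_char⟩
    refine PGroups.omegaOne_ne_bot (S.isPGroup'.to_le inf_le_left) ?_
    haveI : Nontrivial (S : Subgroup G) := (Subgroup.nontrivial_iff_ne_bot _).2 hS1
    obtain ⟨z, hz, hz1⟩ := Subgroup.bot_or_exists_ne_one (Subgroup.center (S : Subgroup G)) |>.resolve_left
      S.isPGroup'.bot_lt_center.ne'
    intro h
    refine hz1 (Subtype.ext (Subgroup.mem_bot.1 (h.le ⟨z.2, Subgroup.mem_centralizer_iff.2 fun t ht => ?_⟩)))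
    exact congrArg Subtype.val (Subgroup.mem_center_iff.1 hz ⟨t, ht⟩)
  obtain ⟨𝓑, ⟨hblk, hconj, hcomm, hstar, -⟩, halt, heq⟩ := H hmin hG S (fun C h1 h2 h3 h4 => hC ⟨C, h1, h2, h3, h4⟩) hz
  have hgen : sSup 𝓑 ⊔ (S : Subgroup G) = ⊤ := top_le_iff.1 (hstar.ge.trans (sup_le
    (heq.le.trans (sup_le (inf_le_right.trans le_sup_left) le_sup_right)) le_sup_left))
  have hsub : ∀ F ∈ 𝓑, F.IsSubnormal := fun F hF => by
    have hn : sSup 𝓑 ≤ Subgroup.normalizer (F : Set G) := sSup_le fun F' hF' => by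
      rcases eq_or_ne F' F with rfl | hne'
      · exact Subgroup.le_normalizer
      · exact (Subgroup.commutator_eq_bot_iff_le_centralizer.1 (hcomm F' hF' F hF hne')).trans
          (Subgroup.centralizer_le_normalizer _)
    haveI : (sSup 𝓑).Normal := ⟨fun x hx g => by
      have hle : (sSup 𝓑).map (MulAut.conj g).toMonoidHom ≤ sSup 𝓑 := by
        rw [(Subgroup.gc_map_comap _).l_sSup]
        exact iSup₂_le fun F' hF' => le_sSup (hconj F' hF' g)
      exact hle ⟨x, hx, rfl⟩⟩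
    exact Subgroup.IsSubnormal.trans (le_sSup hF)
      ((Subgroup.normal_subgroupOf_iff_le_normalizer (le_sSup hF)).2 hn).isSubnormal
      (inferInstance : (sSup 𝓑).Normal).isSubnormal
  obtain ⟨E, hE⟩ : 𝓑.Nonempty := by
    by_contra h
    rw [Set.not_nonempty_iff_eq_empty.1 h, sSup_empty, bot_sup_eq] at hgen
    exact hSn (hgen ▸ inferInstance)
  -- `S` is transitive on the blocks
  have htrans : ∀ F ∈ 𝓑, ∃ s ∈ (S : Subgroup G), F = cj s E := by
    by_contra hcon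
    push Not at hcon
    obtain ⟨F, hF, hFne⟩ := hcon
    set O := {H | ∃ s ∈ (S : Subgroup G), H = cj s E}
    have hO : ∀ H ∈ O, ∀ s ∈ (S : Subgroup G), cj s H ∈ O := by
      rintro _ ⟨t, ht, rfl⟩ s hs
      exact ⟨s * t, mul_mem hs ht, cj_cj s t E⟩
    have hOB : O ⊆ 𝓑 := by rintro _ ⟨t, -, rfl⟩; exact hconj E hE t
    have hEO : E ∈ O := ⟨1, one_mem _, by ext x; simp⟩
    have hFO : F ∉ O := fun ⟨s, hs, e⟩ => hFne s hs e
    have hR : ∀ H ∈ 𝓑 \ O, ∀ s ∈ (S : Subgroup G), cj s H ∈ 𝓑 \ O := fun H hH s hs =>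
      ⟨hconj H hH.1 s, fun h => hH.2 (by
        have h' := hO _ h s⁻¹ (inv_mem hs)
        rwa [cj_cj, inv_mul_cancel, show cj (1 : G) H = H by ext x; simp] at h')⟩
    have h1 : sSup O ⊔ (S : Subgroup G) ≠ ⊤ := not_generate ⟨S, hblk F hF⟩ hO
      fun H hH => hcomm H (hOB hH) F hF fun e => hFO (e ▸ hH)
    have h2 : sSup (𝓑 \ O) ⊔ (S : Subgroup G) ≠ ⊤ := not_generate ⟨S, hblk E hE⟩ hR
      fun H hH => hcomm H hH.1 E hE fun e => hH.2 (e ▸ hEO)
    obtain ⟨M₁, hM₁, hle₁⟩ := (eq_top_or_exists_le_coatom _).resolve_left h1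
    obtain ⟨M₂, hM₂, hle₂⟩ := (eq_top_or_exists_le_coatom _).resolve_left h2
    obtain ⟨M, -, huniq⟩ := hirr S
    obtain rfl := (huniq M₁ ⟨hM₁, le_sup_right.trans hle₁⟩).trans (huniq M₂ ⟨hM₂, le_sup_right.trans hle₂⟩).symm
    refine hM₁.1 (top_le_iff.1 (hgen.ge.trans (sup_le (sSup_le fun H hH => ?_) (le_sup_right.trans hle₁))))
    by_cases hHO : H ∈ O
    · exact (le_sSup hHO).trans (le_sup_left.trans hle₁)
    · exact (le_sSup (show H ∈ 𝓑 \ O from ⟨hH, hHO⟩)).trans (le_sup_left.trans hle₂)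
  obtain ⟨C⟩ := exists_component hG (hblk E hE) (hsub E hE) (halt E hE)
  exact (Family.exists_invariant ⟨𝓑, E, hE, hblk, hsub, hcomm, fun F hF s _ => hconj F hF s, htrans, C⟩ hG hgen A hA)

end Cfsg.Agent.Lib.CGT57
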