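import Cfsg.Agent.Lib.CGT57.Final

/-!
# The components of a block under the Thompson subgroup

A linear block is one component, an alternating block of degree `2ʲ + 1` has one component for each transposition of
the Sylow subgroup.  A component is given by a supporting subgroup `V` and a kernel `L` in `W₁`.
-/

set_option autoImplicit false
set_option linter.style.haveILetI false
set_option linter.unusedSectionVars false
set_option linter.unusedVariables false
set_option maxHeartbeats 800000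

open Cfsg
open scoped commutatorElement Pointwise

namespace Cfsg.Agent.Lib.CGT57

open Cfsg.Agent.Lib.LAEven57.Blocks

universe u

variable {G : Type u} [Group G] [Finite G]

/-- Conjugate subgroup. -/
abbrev cj (s : G) (H : Subgroup G) : Subgroup G := H.map (MulAut.conj s).toMonoidHom

omit [Finite G] in
theorem mem_cj {s x : G} {H : Subgroup G} : x ∈ cj s H ↔ s⁻¹ * x * s ∈ H := by
  constructor
  · rintro ⟨y, hy, rfl⟩
    show s⁻¹ * (s * y * s⁻¹) * s ∈ H
    rwa [show s⁻¹ * (s * y * s⁻¹) * s = y by group]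
  · intro h
    exact ⟨_, h, by show s * (s⁻¹ * x * s) * s⁻¹ = x; group⟩

omit [Finite G] in
theorem conj_mem_centralizer {H : Subgroup G} {s u : G} (hs : s ∈ Subgroup.normalizer (H : Set G))
    (hu : u ∈ Subgroup.centralizer (H : Set G)) : s * u * s⁻¹ ∈ Subgroup.centralizer (H : Set G) :=
  Subgroup.mem_centralizer_iff.2 fun h hh => by
    have h1 := Subgroup.mem_centralizer_iff.1 hu _ ((Subgroup.mem_normalizer_iff''.1 hs h).1 hh)
    calc h * (s * u * s⁻¹) = s * (s⁻¹ * h * s * u) * s⁻¹ := by group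
      _ = s * (u * (s⁻¹ * h * s)) * s⁻¹ := by rw [h1]
      _ = _ := by group

/-- `T` normalises `J(T)`. -/
theorem le_normalizer_thompson (T : Sylow 2 G) : (T : Subgroup G) ≤
    Subgroup.normalizer ((Cfsg.thompsonSubgroupOf 2 (T : Subgroup G) : Subgroup G) : Set G) := by
  haveI := thompson_char (p := 2) (T := (T : Subgroup G))
  haveI : ((Cfsg.thompsonSubgroupOf 2 (T : Subgroup G)).subgroupOf (T : Subgroup G)).Normal := inferInstance
  exact (Subgroup.normal_subgroupOf_iff_le_normalizer (PGroups.thompsonSubgroupOf_le 2 _)).1 inferInstance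

/-- A component of the block `E`. -/
structure Component (T : Sylow 2 G) (E : Subgroup G) where
  V : Subgroup G
  L : Subgroup G
  hV : V ≤ W1 2 E
  hL : L ≤ W1 2 E
  hZ : W1 2 E ⊓ Subgroup.centralizer (E : Set G) ≤ L
  span : W1 2 E ≤ V ⊔ L
  move : ∀ x ∈ Cfsg.thompsonSubgroupOf 2 (T : Subgroup G), x ∉ Subgroup.centralizer (V : Set G) →
    ∀ u ∈ W1 2 E, ⁅x, u⁆ ∈ Subgroup.centralizer (E : Set G) → u ∈ L
  card : (Subgroup.centralizer (V : Set G)).relIndex (Cfsg.thompsonSubgroupOf 2 (T : Subgroup G)) ≤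
    L.relIndex (W1 2 E)
  apart : ∀ s ∈ (T : Subgroup G), s ∈ Subgroup.normalizer (E : Set G) → (cj s V = V ∧ cj s L = L) ∨ V ≤ cj s L
  kerL : ∀ u ∈ W1 2 E, (∀ s ∈ (T : Subgroup G), s ∈ Subgroup.normalizer (E : Set G) → u ∈ cj s L) →
    u ∈ Subgroup.centralizer (Cfsg.thompsonSubgroupOf 2 (T : Subgroup G) : Set G)
  kerV : ∀ x ∈ Cfsg.thompsonSubgroupOf 2 (T : Subgroup G),
    (∀ s ∈ (T : Subgroup G), s ∈ Subgroup.normalizer (E : Set G) → x ∈ Subgroup.centralizer (cj s V : Set G)) →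
      x ∈ Subgroup.centralizer (W1 2 E : Set G)

variable (hG : Subgroup.centralizer (Cfsg.pCore 2 G : Set G) ≤ Cfsg.pCore 2 G) {T : Sylow 2 G} {E : Subgroup G}
  (hT : Cfsg.IsBaumannBlock 2 (T : Subgroup G) E) (hEs : E.IsSubnormal)
include hG hT hEs

/-- A linear block over at least four elements is one component. -/
theorem component_linear {F : Type} [Field F] [Fintype F] [CharP F 2] (X : LinModel 2 E F)
    (h4 : 4 ≤ Fintype.card F) : Nonempty (Component T E) := by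
  classical
  have hE : IsBlk 2 E := ⟨T, hT⟩
  have hTN : ∀ A ∈ PGroups.maxElemAbIn 2 (T : Subgroup G), A ≤ Subgroup.normalizer (E : Set G) :=
    fun A hA => maxElemAb_le hG hE hEs T hA
  set J := Cfsg.thompsonSubgroupOf 2 (T : Subgroup G) with hJ
  have hJN : J ≤ Subgroup.normalizer (E : Set G) := (PGroups.thompsonSubgroupOf_eq 2 _).le.trans (sSup_le hTN)
  have hJB : J ≤ Cfsg.baumannSubgroupOf 2 (T : Subgroup G) :=
    (PGroups.thompsonSubgroupOf_eq 2 _).le.trans (sSup_le fun A hA => maxElemAb_le_baumann hA)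
  set C := W1 2 E ⊓ Subgroup.centralizer (J : Set G) with hC
  obtain ⟨v, hv0, hv⟩ := exists_common hG hE T hTN X.X
  have hhat : ∀ j, ∀ hj : j ∈ J, ∃ m, X.X.θ ⟨j, hJN hj⟩ = NatSL.op m := fun j hj =>
    hat_baumann hG hE T hTN X (hJB hj) (hJN hj)
  have hfixJ : ∀ c : F, ∀ j, ∀ hj : j ∈ J, X.X.θ ⟨j, hJN hj⟩ (c • v) = c • v := fun c j hj => by
    letI : MulAction (Subgroup.normalizer (E : Set G)) (Fin 2 → F) := MulAction.compHom _ X.X.θ
    have hle : J ≤ (MulAction.stabilizer (Subgroup.normalizer (E : Set G)) v).map (Subgroup.normalizer (E : Set G)).subtype := by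
      rw [hJ, PGroups.thompsonSubgroupOf_eq]
      exact sSup_le fun A hA a ha => ⟨⟨a, hTN A hA ha⟩, hv A (hTN A hA) hA ⟨a, ha⟩, rfl⟩
    obtain ⟨⟨j', hj'⟩, h, rfl⟩ := hle hj
    obtain ⟨m, hm⟩ := hhat j' hj
    show X.X.θ ⟨j', hj'⟩ (c • v) = c • v
    rw [hm, lin_op, ← hm]
    exact congrArg (c • ·) h
  -- vectors fixed by the offenders are centralised
  have hfixC : ∀ u, ∀ hu : u ∈ W1 2 E, (∃ c : F, X.X.vec hu = c • v) → u ∈ C := fun u hu ⟨c, hc⟩ => by
    refine ⟨hu, Subgroup.mem_centralizer_iff.2 fun j hj => ?_⟩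
    have hle : J ≤ Subgroup.centralizer ({u} : Set G) := by
      rw [hJ, PGroups.thompsonSubgroupOf_eq]
      refine sSup_le fun A hA a ha => Subgroup.mem_centralizer_singleton_iff.2 ?_
      obtain ⟨hff, -⟩ := X.ff hE (hTN A hA) hA.2.1
      refine Subgroup.mem_centralizer_iff.1 ((offender_fix hG hE hA (hTN A hA) X.X hff).1 u hu ?_) a ha
      intro b
      rw [hc]
      exact hfixJ c b (PGroups.le_thompsonSubgroupOf hA b.2)
    exact Subgroup.mem_centralizer_singleton_iff.1 (hle hj)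
  obtain ⟨w, hw⟩ : ∃ w : Fin 2 → F, w 0 * v 1 - w 1 * v 0 ≠ 0 := by
    by_cases h0 : v 0 = 0
    · have h1 : v 1 ≠ 0 := fun h => hv0 (funext fun i => by fin_cases i <;> assumption)
      exact ⟨![1, 0], by simpa using h1⟩
    · exact ⟨![0, 1], by simpa using h0⟩
  have hone : ∀ j, ∀ hj : j ∈ J, X.X.θ ⟨j, hJN hj⟩ w = w → j ∈ Subgroup.centralizer (W1 2 E : Set G) :=
    fun j hj hjw => by
      refine (θ_centralises hE X.X (hJN hj)).1 (AddMonoidHom.ext fun y => ?_)
      obtain ⟨r, s, rfl⟩ := NatSL.exists_coord hw y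
      obtain ⟨m, hm⟩ := hhat j hj
      show X.X.θ ⟨j, hJN hj⟩ (r • w + s • v) = r • w + s • v
      rw [map_add, hfixJ s j hj, hm, lin_op, ← hm, hjw]
  refine ⟨⟨W1 2 E, C, le_rfl, inf_le_left, fun u hu => ?_, le_sup_left, ?_, ?_, ?_, ?_, ?_⟩⟩
  · exact hfixC u hu.1 ⟨0, by rw [zero_smul]; exact (X.X.vec_eq_zero hu.1).2 hu.2⟩
  · intro x hx hxV u hu hxu
    refine hfixC u hu ?_
    set y := X.X.vec hu
    have hy : X.X.θ ⟨x, hJN hx⟩ y = y := by
      rw [X.X.θ_vec ⟨x, hJN hx⟩ hu]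
      exact (X.X.vec_eq _ hu).2 hxu
    by_cases hD : y 0 * v 1 - y 1 * v 0 = 0
    · exact NatSL.exists_smul hv0 (sub_eq_zero.1 hD)
    · refine absurd (hone x hx ?_) hxV
      obtain ⟨r, s, hrs⟩ := NatSL.exists_coord hD w
      obtain ⟨m, hm⟩ := hhat x hx
      rw [hrs, map_add, hfixJ s x hx, hm, lin_op, ← hm, hy]
  · -- counting
    have hexp : ∀ j, ∀ hj : j ∈ J, ∃ c : F, X.X.θ ⟨j, hJN hj⟩ w = w + c • v := fun j hj => by
      obtain ⟨m, hm⟩ := hhat j hj
      have hmv : NatSL.op m v = v := by simpa [hm] using hfixJ 1 j hj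
      exact hm ▸ NatSL.lin_move (lin_op m) (by
        rw [← NatSL.op_pow, sq, NatSL.sq_of_fix hv0 hmv, NatSL.op_one]) hv0 hmv w
    choose c hc using hexp
    set K := (Subgroup.centralizer (W1 2 E : Set G)).subgroupOf J
    let f : J ⧸ K → F := fun q => c q.out q.out.2
    have hf : Function.Injective f := fun q q' h => by
      rw [← QuotientGroup.out_eq' q, ← QuotientGroup.out_eq' q', QuotientGroup.eq]
      refine Subgroup.mem_subgroupOf.2 (hone _ (q.out⁻¹ * q'.out).2 ?_)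
      have e : X.X.θ ⟨(q.out : G), hJN q.out.2⟩ w = X.X.θ ⟨(q'.out : G), hJN q'.out.2⟩ w := by
        rw [hc _ q.out.2, hc _ q'.out.2, show c _ q.out.2 = c _ q'.out.2 from h]
      rw [show (⟨((q.out⁻¹ * q'.out : J) : G), hJN (q.out⁻¹ * q'.out).2⟩ : Subgroup.normalizer (E : Set G)) =
        ⟨(q.out : G), hJN q.out.2⟩⁻¹ * ⟨(q'.out : G), hJN q'.out.2⟩ from rfl, map_mul]
      show X.X.θ _ (X.X.θ _ w) = w
      rw [← e]
      show (X.X.θ _ * X.X.θ _) w = w
      rw [← map_mul, inv_mul_cancel, map_one]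
      rfl
    choose l hl hlv using fun a : F => X.X.exists_vec (a • w)
    let g : F → W1 2 E ⧸ C.subgroupOf (W1 2 E) := fun a => QuotientGroup.mk ⟨l a, hl a⟩
    have hg : Function.Injective g := fun a b h => by
      have hm : (l a)⁻¹ * l b ∈ C := Subgroup.mem_subgroupOf.1 (QuotientGroup.eq.1 h)
      set u := (l a)⁻¹ * l b
      by_contra hab
      obtain ⟨A, hA, hAW⟩ := exists_moving_max hG T hT
      obtain ⟨x, hx, hxW⟩ := SetLike.not_le_iff_exists.1 hAW
      have hxJ := PGroups.le_thompsonSubgroupOf hA hx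
      refine hxW (hone x hxJ ?_)
      have hu : X.X.vec hm.1 = (b - a) • w := by
        rw [sub_smul, ← hlv a, ← hlv b, ← neg_add_eq_sub]
        show Multiplicative.toAdd (X.X.ψ ⟨u, hm.1⟩) = -Multiplicative.toAdd (X.X.ψ ⟨l a, hl a⟩) +
          Multiplicative.toAdd (X.X.ψ ⟨l b, hl b⟩)
        rw [← toAdd_inv, ← toAdd_mul, ← map_inv, ← map_mul]
        rfl
      have hfix : X.X.θ ⟨x, hJN hxJ⟩ (X.X.vec hm.1) = X.X.vec hm.1 := by
        rw [X.X.θ_vec ⟨x, hJN hxJ⟩ hm.1]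
        refine (X.X.vec_eq _ _).2 ?_
        show x * u * x⁻¹ * u⁻¹ ∈ _
        rw [Subgroup.mem_centralizer_iff.1 hm.2 x hxJ, mul_inv_cancel_right, mul_inv_cancel]
        exact one_mem _
      obtain ⟨m, hmx⟩ := hhat x hxJ
      rw [hu, hmx, lin_op, ← hmx] at hfix
      exact smul_right_injective _ (sub_ne_zero.2 (Ne.symm hab)) hfix
    exact (Nat.card_le_card_of_injective f hf).trans (Nat.card_le_card_of_injective g hg)
  · intro s hs hsN
    have hWeq : cj s (W1 2 E) = W1 2 E :=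
      Subgroup.mem_normalizer_iff_map_conj_eq.1 (normalizer_le_normalizer_W1 2 E hsN)
    refine Or.inl ⟨hWeq, ?_⟩
    refine le_antisymm ?_ ?_ <;> intro u hu
    · obtain ⟨u', hu', rfl⟩ := hu
      refine ⟨hWeq.le ⟨u', hu'.1, rfl⟩, ?_⟩
      exact conj_mem_centralizer (le_normalizer_thompson T hs) hu'.2
    · refine mem_cj.2 ⟨mem_cj.1 (hWeq.ge hu.1), ?_⟩
      simpa using conj_mem_centralizer (le_normalizer_thompson T (inv_mem hs)) hu.2
  · intro u hu h
    have := h 1 (one_mem _) (one_mem _)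
    rw [mem_cj, inv_one, one_mul, mul_one] at this
    exact this.2
  · intro x hx h
    have := h 1 (one_mem _) (one_mem _)
    simpa [cj, Subgroup.map_id] using this

omit hG hT hEs in
/-- In degree `2ʲ + 1` a Sylow 2-subgroup of the symmetric group is transitive off its fixed point. -/
theorem Frame.transitive (D : Frame T E) {j : ℕ} (hj : D.n = 2 ^ j + 1) {x y : Fin D.n} (hx : x ≠ D.o)
    (hy : y ≠ D.o) : y ∈ D.orb x := by
  classical
  have hinv : ∀ a, ∀ σ ∈ (D.P : Subgroup (Equiv.Perm (Fin D.n))), σ • D.orb a = D.orb a := fun a σ hσ => by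
    ext z
    rw [Set.mem_smul_set]
    constructor
    · rintro ⟨_, ⟨τ, hτ, rfl⟩, rfl⟩
      exact ⟨σ * τ, mul_mem hσ hτ, rfl⟩
    · rintro ⟨τ, hτ, rfl⟩
      exact ⟨σ⁻¹ (τ a), ⟨σ⁻¹ * τ, mul_mem (inv_mem hσ) hτ, rfl⟩, σ.apply_symm_apply _⟩
  have hself : ∀ a, a ∈ D.orb a := fun a => ⟨1, one_mem _, rfl⟩
  have hsame : ∀ {a b}, b ∈ D.orb a → D.orb b = D.orb a := fun {a b} ⟨σ, hσ, h⟩ => by
    ext z
    constructor
    · rintro ⟨τ, hτ, rfl⟩; exact ⟨τ * σ, mul_mem hτ hσ, by rw [← h]; rfl⟩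
    · rintro ⟨τ, hτ, rfl⟩
      exact ⟨τ * σ⁻¹, mul_mem hτ (inv_mem hσ), by rw [← h]; exact congrArg τ (σ.symm_apply_apply a)⟩
  have hpow : ∀ a, ∃ k, (D.orb a).ncard = 2 ^ k := fun a => by
    obtain ⟨k, hk⟩ := IsPGroup.iff_card.1 (T.isPGroup'.to_le
      (inf_le_left : (T : Subgroup G) ⊓ Subgroup.normalizer (E : Set G) ≤ (T : Subgroup G)))
    have hd := D.orb_dvd a
    rw [hk] at hd
    obtain ⟨i, -, hi⟩ := (Nat.dvd_prime_pow Nat.prime_two).1 hd
    exact ⟨i, hi⟩
  choose k hk using hpow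
  obtain ⟨a, ha, hmin⟩ := Finset.exists_min_image (Finset.univ.erase D.o) k ⟨x, by simp [hx]⟩
  have hao : a ≠ D.o := (Finset.mem_erase.1 ha).1
  have hne : ∀ b, b ≠ D.o → ∀ z ∈ D.orb b, z ≠ D.o := by
    rintro b hb _ ⟨σ, hσ, rfl⟩ hz
    exact hb (σ.injective (hz.trans (D.fix σ hσ).symm))
  have hfib : ∀ b ∈ Finset.univ.erase D.o,
      ((Finset.univ.erase D.o).filter fun z => D.orb z = D.orb b).card = (D.orb b).ncard := fun b hb => by
    rw [← Set.ncard_coe_finset]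
    congr 1
    ext z
    simp only [Finset.coe_filter, Finset.mem_erase, Finset.mem_univ, and_true, Set.mem_ofPred_eq]
    exact ⟨fun h => h.2 ▸ hself z, fun h => ⟨hne b (Finset.mem_erase.1 hb).1 z h, hsame h⟩⟩
  have hcard : (Finset.univ.erase D.o).card = 2 ^ j := by
    rw [Finset.card_erase_of_mem (Finset.mem_univ _), Finset.card_univ, Fintype.card_fin, hj]; omega
  have hsum := Finset.card_eq_sum_card_image (fun z => D.orb z) (Finset.univ.erase D.o)
  rw [hcard, ← Finset.sum_erase_add _ _ (Finset.mem_image_of_mem _ ha), hfib a ha, hk a] at hsum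
  set R := ∑ O ∈ ((Finset.univ.erase D.o).image fun z => D.orb z).erase (D.orb a),
    ((Finset.univ.erase D.o).filter fun z => D.orb z = O).card
  have hR : 2 ^ (k a + 1) ∣ R := Finset.dvd_sum fun O hO => by
    obtain ⟨hOa, hO'⟩ := Finset.mem_erase.1 hO
    obtain ⟨b, hb, rfl⟩ := Finset.mem_image.1 hO'
    rw [hfib b hb, hk b]
    refine pow_dvd_pow 2 ?_
    rcases (hmin b hb).eq_or_lt with h | h
    · have hd : Disjoint (D.orb b) (D.orb a) := Set.disjoint_left.2 fun z h1 h2 =>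
        hOa ((hsame h1).symm.trans (hsame h2))
      exact absurd (orbit_eq_of_ncard D.P (hinv b) (hinv a) hd (by rw [hk, hk, h])) hOa
    · exact h
  have hka : k a = j := by
    rcases Nat.lt_or_ge (k a) j with hlt | hge
    · exfalso
      have h1 : 2 ^ (k a + 1) ∣ R + 2 ^ k a := hsum ▸ pow_dvd_pow 2 hlt
      have h2 : 2 ^ (k a + 1) ≤ 2 ^ k a :=
        Nat.le_of_dvd (by positivity) ((Nat.dvd_add_right hR).1 h1)
      rw [pow_succ] at h2
      have : 0 < 2 ^ k a := by positivity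
      omega
    · exact le_antisymm ((Nat.pow_le_pow_iff_right (le_refl 2)).1 (by omega)) hge
  have hall : ∀ z, z ≠ D.o → z ∈ D.orb a := by
    have hsub : D.orb a ⊆ ↑(Finset.univ.erase D.o) := fun z hz => by simpa using hne a hao z hz
    have heq := Set.eq_of_subset_of_ncard_le hsub (by rw [Set.ncard_coe_finset, hcard, hk, hka])
    intro z hz
    rw [heq]; simpa using hz
  rw [hsame (hall x hx)]
  exact hall y hy

omit [Finite G] hG hT hEs in
/-- The part of `W₁` with vectors in a given submodule. -/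
def vecPart {R M : Type} [Group R] [AddCommGroup M] (X : Model 2 E R M) (N : AddSubgroup M) : Subgroup G :=
  ((AddSubgroup.toSubgroup N).comap X.ψ).map (W1 2 E).subtype

omit [Finite G] hG hT hEs in
theorem mem_vecPart {R M : Type} [Group R] [AddCommGroup M] {X : Model 2 E R M} {N : AddSubgroup M} {u : G} :
    u ∈ vecPart X N ↔ ∃ hu : u ∈ W1 2 E, X.vec hu ∈ N := by
  constructor
  · rintro ⟨⟨u, hu⟩, h, rfl⟩; exact ⟨hu, h⟩
  · rintro ⟨hu, h⟩; exact ⟨⟨u, hu⟩, h, rfl⟩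

/-- An alternating block of degree `2ʲ + 1`: the component of one transposition. -/
theorem component_alt {n : ℕ} (hodd : Odd n) (hn : 3 ≤ n) (X : AltModel 2 E n) {j : ℕ} (hj : n = 2 ^ j + 1) :
    Nonempty (Component T E) := by
  classical
  have hE : IsBlk 2 E := ⟨T, hT⟩
  obtain ⟨D, rfl⟩ := exists_frame hG hT hEs hodd hn X
  have hP : IsPGroup 2 (D.P : Subgroup (Equiv.Perm (Fin D.n))) := D.P.isPGroup'
  obtain ⟨p, hpo, -⟩ := NatAlt.exists_third D.hodd D.hn D.o D.o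
  obtain ⟨q, hpq⟩ := D.cov p hpo
  have hqo : q ≠ D.o := fun h => D.free p (h ▸ hpq.symm)
  let NV : AddSubgroup (NatAlt.D D.n) :=
    { carrier := {v | ∀ i, i ≠ D.o → i ≠ p → i ≠ q → (v : Fin D.n → ZMod 2) i = 0}
      zero_mem' := fun i _ _ _ => rfl
      add_mem' := fun {a b} ha hb i h1 h2 h3 => by
        show (a : Fin D.n → ZMod 2) i + (b : Fin D.n → ZMod 2) i = 0
        rw [ha i h1 h2 h3, hb i h1 h2 h3, add_zero]
      neg_mem' := fun {a} ha i h1 h2 h3 => by
        show -((a : Fin D.n → ZMod 2) i) = 0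
        rw [ha i h1 h2 h3, neg_zero] }
  let NL : AddSubgroup (NatAlt.D D.n) :=
    { carrier := {v | (v : Fin D.n → ZMod 2) p = (v : Fin D.n → ZMod 2) q}
      zero_mem' := rfl
      add_mem' := fun {a b} (ha : _ = _) (hb : _ = _) => by
        show (a : Fin D.n → ZMod 2) p + (b : Fin D.n → ZMod 2) p = _ + (b : Fin D.n → ZMod 2) q
        rw [ha, hb]
      neg_mem' := fun {a} (ha : _ = _) => by
        show -((a : Fin D.n → ZMod 2) p) = -((a : Fin D.n → ZMod 2) q)
        rw [ha] }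
  set J := Cfsg.thompsonSubgroupOf 2 (T : Subgroup G)
  have hJN : J ≤ Subgroup.normalizer (E : Set G) := Frame.thompson_le hG hE hEs
  let π : ∀ g, g ∈ Subgroup.normalizer (E : Set G) → Equiv.Perm (Fin D.n) := fun g hg =>
    Alt.perm D.hodd D.hn D.X ⟨g, hg⟩
  -- elements fixing `p` fix the vectors of the component
  have hfixV : ∀ x, ∀ hx : x ∈ J, π x (hJN hx) p = p → x ∈ Subgroup.centralizer (vecPart D.X.X NV : Set G) := by
    intro x hx hfp
    refine Subgroup.mem_centralizer_iff.2 fun u hu => ?_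
    obtain ⟨hu1, huN⟩ := mem_vecPart.1 hu
    have hfq : π x (hJN hx) q = q := by
      rcases D.thompson_edge hG hE hEs hx (hJN hx) q with h | h
      · exact h
      · exact absurd ((π x (hJN hx)).injective ((Edge.unique hP h hpq.symm).trans hfp.symm)) hpq.1.symm
    have hfo : π x (hJN hx) D.o = D.o := D.fix _ (D.perm_mem_P (PGroups.thompsonSubgroupOf_le 2 _ hx) (hJN hx))
    refine (mul_inv_eq_iff_eq_mul.1 (Alt.conj_eq D.hodd D.hn D.X hE (hJN hx) hu1 ?_)).symm
    refine Subtype.ext (funext fun i => ?_)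
    rw [NatAlt.op_apply]
    set σ := Alt.perm D.hodd D.hn D.X ⟨x, hJN hx⟩
    have e : ∀ a, σ a = a → σ⁻¹ a = a := fun a ha => Equiv.Perm.inv_eq_iff_eq.2 ha.symm
    by_cases h1 : i = D.o
    · rw [h1, e _ hfo]
    by_cases h2 : i = p
    · rw [h2, e _ hfp]
    by_cases h3 : i = q
    · rw [h3, e _ hfq]
    have back : ∀ a, σ a = a → i ≠ a → σ⁻¹ i ≠ a := fun a ha hia h => hia (by
      rw [← ha, ← h]; exact (σ.apply_symm_apply i).symm)
    rw [huN _ (back _ hfo h1) (back _ hfp h2) (back _ hfq h3), huN i h1 h2 h3]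
  have hdp : Alt.d D.hodd D.o p ∈ NV := fun i h1 h2 _ => by
    rw [Alt.d_apply, if_neg h1, if_neg h2, add_zero]
  have hbool : ∀ a b : ZMod 2, a ≠ b → b = a + 1 := by decide
  refine ⟨⟨vecPart D.X.X NV, vecPart D.X.X NL, fun u hu => (mem_vecPart.1 hu).1, fun u hu => (mem_vecPart.1 hu).1,
    ?_, ?_, ?_, ?_, ?_, ?_, ?_⟩⟩
  · intro u hu
    exact mem_vecPart.2 ⟨hu.1, (D.X.X.vec_eq_zero hu.1).2 hu.2 ▸ zero_mem _⟩
  · intro u hu
    by_cases h : D.X.X.vec hu ∈ NL
    · exact Subgroup.mem_sup_right (mem_vecPart.2 ⟨hu, h⟩)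
    obtain ⟨t, ht, htv⟩ := D.X.X.exists_vec (Alt.d D.hodd D.o p)
    have h2 : D.X.X.vec (mul_mem (inv_mem ht) hu) ∈ NL := by
      have e : D.X.X.vec (mul_mem (inv_mem ht) hu) = -D.X.X.vec ht + D.X.X.vec hu := by
        show Multiplicative.toAdd (D.X.X.ψ (⟨t, ht⟩⁻¹ * ⟨u, hu⟩)) = _
        rw [map_mul, map_inv, toAdd_mul, toAdd_inv]
        rfl
      rw [e, htv, neg_eq_of_add_eq_zero_left (Alt.add_self _)]
      show (Alt.d D.hodd D.o p : Fin D.n → ZMod 2) p + (D.X.X.vec hu : Fin D.n → ZMod 2) p =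
        (Alt.d D.hodd D.o p : Fin D.n → ZMod 2) q + (D.X.X.vec hu : Fin D.n → ZMod 2) q
      rw [Alt.d_apply, Alt.d_apply, if_neg hpo, if_pos rfl, if_neg hqo, if_neg hpq.1.symm, hbool _ _ h, zero_add,
        add_zero, zero_add, add_comm]
    have := mul_mem (Subgroup.mem_sup_left (T := vecPart D.X.X NL) (mem_vecPart.2 ⟨ht, htv ▸ hdp⟩))
      (Subgroup.mem_sup_right (S := vecPart D.X.X NV) (mem_vecPart.2 ⟨_, h2⟩))
    rwa [mul_inv_cancel_left] at this
  · intro x hx hxV u hu hxu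
    refine mem_vecPart.2 ⟨hu, ?_⟩
    have hxp : π x (hJN hx) p ≠ p := fun h => hxV (hfixV x hx h)
    have hxq : π x (hJN hx) p = q :=
      (Edge.unique hP ((D.thompson_edge hG hE hEs hx (hJN hx) p).resolve_left hxp) hpq)
    have h1 : D.X.X.θ ⟨x, hJN hx⟩ (D.X.X.vec hu) = D.X.X.vec hu := by
      rw [D.X.X.θ_vec ⟨x, hJN hx⟩ hu]; exact (D.X.X.vec_eq _ hu).2 hxu
    rw [Alt.θ_eq D.hodd D.hn D.X] at h1
    have h2 := congrArg (fun w : NatAlt.D D.n => (w : Fin D.n → ZMod 2) q) h1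
    simp only [NatAlt.op_apply] at h2
    rw [Equiv.Perm.inv_eq_iff_eq.2 hxq.symm] at h2
    exact h2
  · -- counting
    have hL2 : 2 ≤ (vecPart D.X.X NL).relIndex (W1 2 E) := by
      by_contra hlt
      obtain ⟨t, ht, htv⟩ := D.X.X.exists_vec (Alt.d D.hodd D.o p)
      have h0 : (vecPart D.X.X NL).relIndex (W1 2 E) ≠ 0 := Subgroup.index_ne_zero_of_finite
      have h1 := Subgroup.relIndex_eq_one.1 (show (vecPart D.X.X NL).relIndex (W1 2 E) = 1 by omega) ht
      obtain ⟨ht', h'⟩ := mem_vecPart.1 h1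
      rw [show D.X.X.vec ht' = Alt.d D.hodd D.o p from htv] at h'
      change (Alt.d D.hodd D.o p : Fin D.n → ZMod 2) p = (Alt.d D.hodd D.o p : Fin D.n → ZMod 2) q at h'
      rw [Alt.d_apply, Alt.d_apply, if_neg hpo, if_pos rfl, if_neg hqo, if_neg hpq.1.symm] at h'
      simp at h'
    refine le_trans ?_ hL2
    set K := (Subgroup.centralizer (vecPart D.X.X NV : Set G)).subgroupOf J
    let f : J ⧸ K → Bool := fun c => decide (π c.out (hJN c.out.2) p = p)
    have hf : Function.Injective f := fun c c' h => by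
      rw [← QuotientGroup.out_eq' c, ← QuotientGroup.out_eq' c', QuotientGroup.eq]
      refine Subgroup.mem_subgroupOf.2 (hfixV _ (c.out⁻¹ * c'.out).2 ?_)
      have hiff := decide_eq_decide.1 h
      have e : π _ (hJN (c.out⁻¹ * c'.out).2) = (π c.out (hJN c.out.2))⁻¹ * π c'.out (hJN c'.out.2) := by
        show Alt.perm D.hodd D.hn D.X _ = _
        rw [← map_inv, ← map_mul]
        rfl
      rw [e, Equiv.Perm.mul_apply, Equiv.Perm.inv_eq_iff_eq]
      by_cases hc : π c.out (hJN c.out.2) p = p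
      · rw [hiff.1 hc, hc]
      · have hc' : ¬ π c'.out (hJN c'.out.2) p = p := fun h => hc (hiff.2 h)
        rw [Edge.unique hP ((D.thompson_edge hG hE hEs c'.out.2 (hJN c'.out.2) p).resolve_left hc') hpq,
          Edge.unique hP ((D.thompson_edge hG hE hEs c.out.2 (hJN c.out.2) p).resolve_left hc) hpq]
    exact (Nat.card_le_card_of_injective f hf).trans (by simp)
  · intro s hs hsN
    have hσ := D.perm_mem_P hs hsN
    set σ := Alt.perm D.hodd D.hn D.X ⟨s, hsN⟩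
    have hvec : ∀ u, ∀ hu : u ∈ W1 2 E, ∀ i, (D.X.X.vec (conj_W1 hsN hu) : Fin D.n → ZMod 2) i =
        (D.X.X.vec hu : Fin D.n → ZMod 2) (σ⁻¹ i) := fun u hu i => by
      rw [Alt.vec_conj D.hodd D.hn D.X hsN hu]; rfl
    have hcj : ∀ {N : AddSubgroup (NatAlt.D D.n)} {u : G}, u ∈ cj s (vecPart D.X.X N) → ∃ u', ∃ hu' : u' ∈ W1 2 E,
        D.X.X.vec hu' ∈ N ∧ u = s * u' * s⁻¹ := by
      rintro N _ ⟨u', hu', rfl⟩
      obtain ⟨h1, h2⟩ := mem_vecPart.1 hu'
      exact ⟨u', h1, h2, rfl⟩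
    have hfo : σ D.o = D.o := D.fix σ hσ
    have e : ∀ a b, σ a = b → σ⁻¹ b = a := fun a b h => Equiv.Perm.inv_eq_iff_eq.2 h.symm
    by_cases hpres : (σ p = p ∧ σ q = q) ∨ (σ p = q ∧ σ q = p)
    · left
      have hle : ∀ N, (N = NV ∨ N = NL) → cj s (vecPart D.X.X N) ≤ vecPart D.X.X N := fun N hN u hu => by
        obtain ⟨u', hu', hN', rfl⟩ := hcj hu
        refine mem_vecPart.2 ⟨conj_W1 hsN hu', ?_⟩
        rcases hN with rfl | rfl
        · intro i h1 h2 h3
          rw [hvec]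
          have back : ∀ a b, σ a = b → i ≠ b → σ⁻¹ i ≠ a := fun a b ha hia h => hia (by
            rw [← ha, ← h]; exact (σ.apply_symm_apply i).symm)
          rcases hpres with ⟨a, b⟩ | ⟨a, b⟩
          · exact hN' _ (back _ _ hfo h1) (back _ _ a h2) (back _ _ b h3)
          · exact hN' _ (back _ _ hfo h1) (back _ _ a h3) (back _ _ b h2)
        · show _ = _
          rw [hvec, hvec]
          rcases hpres with ⟨a, b⟩ | ⟨a, b⟩
          · rw [e _ _ a, e _ _ b]; exact hN'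
          · rw [e _ _ a, e _ _ b]; exact hN'.symm
      have heq : ∀ N, (N = NV ∨ N = NL) → cj s (vecPart D.X.X N) = vecPart D.X.X N := fun N hN =>
        Subgroup.eq_of_le_of_card_ge (hle N hN)
          (Subgroup.card_map_of_injective (K := vecPart D.X.X N)
            (show Function.Injective (MulAut.conj s).toMonoidHom from (MulAut.conj s).injective)).ge
      exact ⟨heq _ (Or.inl rfl), heq _ (Or.inr rfl)⟩
    · right
      intro u hu
      obtain ⟨hu1, huN⟩ := mem_vecPart.1 hu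
      refine mem_cj.2 (mem_vecPart.2 ?_)
      have hu' : s⁻¹ * u * s ∈ W1 2 E := by simpa using conj_W1 (inv_mem hsN) hu1
      refine ⟨hu', ?_⟩
      have hEd : Edge (D.P : Subgroup (Equiv.Perm (Fin D.n))) (σ p) (σ q) := hpq.map hσ
      have hout : ∀ a, σ a ≠ p → σ a ≠ q → σ a ≠ D.o → (D.X.X.vec hu' : Fin D.n → ZMod 2) a = 0 := fun a h1 h2 h3 => by
        have e1 : D.X.X.vec hu1 = D.X.X.vec (conj_W1 hsN hu') := (D.X.X.vec_eq _ _).2 (by
          rw [show u * (s * (s⁻¹ * u * s) * s⁻¹)⁻¹ = 1 by group]; exact one_mem _)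
        have := hvec _ hu' (σ a)
        rw [← e1, e a _ rfl, huN _ h3 h1 h2] at this
        exact this.symm
      have hpo' : σ p ≠ D.o := fun h => hpo (σ.injective (h.trans hfo.symm))
      have hqo' : σ q ≠ D.o := fun h => hqo (σ.injective (h.trans hfo.symm))
      have k1 : σ p ≠ p := fun h => hpres (Or.inl ⟨h, Edge.unique hP (h ▸ hEd) hpq⟩)
      have k2 : σ p ≠ q := fun h => hpres (Or.inr ⟨h, Edge.unique hP (h ▸ hEd) hpq.symm⟩)
      have k3 : σ q ≠ p := fun h => hpres (Or.inr ⟨Edge.unique hP (h ▸ hEd.symm) hpq, h⟩)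
      have k4 : σ q ≠ q := fun h => hpres (Or.inl ⟨Edge.unique hP (h ▸ hEd.symm) hpq.symm, h⟩)
      show _ = _
      rw [hout p k1 k2 hpo', hout q k3 k4 hqo']
  · intro u hu h
    have hedge : ∀ a b, Edge (D.P : Subgroup (Equiv.Perm (Fin D.n))) a b →
        (D.X.X.vec hu : Fin D.n → ZMod 2) a = (D.X.X.vec hu : Fin D.n → ZMod 2) b := fun a b hab => by
      have hao : a ≠ D.o := fun h => D.free b (h ▸ hab)
      obtain ⟨σ, hσ, hσa⟩ := D.transitive hj hpo hao
      have hσb : σ q = b := Edge.unique hP (hσa ▸ hpq.map hσ) hab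
      obtain ⟨s, hs, hsN, rfl⟩ := (D.img σ).1 hσ
      obtain ⟨hu', hN⟩ := mem_vecPart.1 (mem_cj.1 (h s hs hsN))
      have e1 : D.X.X.vec hu = D.X.X.vec (conj_W1 hsN hu') := (D.X.X.vec_eq _ _).2 (by
        rw [show u * (s * (s⁻¹ * u * s) * s⁻¹)⁻¹ = 1 by group]; exact one_mem _)
      rw [e1, Alt.vec_conj D.hodd D.hn D.X hsN hu', NatAlt.op_apply, NatAlt.op_apply,
        Equiv.Perm.inv_eq_iff_eq.2 hσa.symm, Equiv.Perm.inv_eq_iff_eq.2 hσb.symm]
      exact hN
    refine Subgroup.mem_centralizer_iff.2 fun x hx => ?_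
    refine mul_inv_eq_iff_eq_mul.1 (Alt.conj_eq D.hodd D.hn D.X hE (hJN hx) hu ?_)
    refine Subtype.ext (funext fun i => ?_)
    rw [NatAlt.op_apply]
    set σ := Alt.perm D.hodd D.hn D.X ⟨x, hJN hx⟩
    have h1 : σ (σ⁻¹ i) = i := σ.apply_symm_apply i
    rcases D.thompson_edge hG hE hEs hx (hJN hx) (σ⁻¹ i) with h2 | h2
    · rw [h1] at h2; rw [← h2]
    · rw [h1] at h2; exact hedge _ _ h2
  · intro x hx h
    refine (Alt.perm_eq_one D.hodd D.hn D.X hE (hJN hx)).1 (Equiv.ext fun i => ?_)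
    set σ := Alt.perm D.hodd D.hn D.X ⟨x, hJN hx⟩
    rw [Equiv.Perm.one_apply]
    by_cases hi : i = D.o
    · rw [hi]; exact D.fix _ (D.perm_mem_P (PGroups.thompsonSubgroupOf_le 2 _ hx) (hJN hx))
    by_contra hne
    obtain ⟨τ, hτ, hτi⟩ := D.transitive hj hpo hi
    obtain ⟨s, hs, hsN, rfl⟩ := (D.img τ).1 hτ
    set τ := Alt.perm D.hodd D.hn D.X ⟨s, hsN⟩
    obtain ⟨t, ht, htv⟩ := D.X.X.exists_vec (Alt.d D.hodd D.o p)
    set u := s * t * s⁻¹
    have hu : u ∈ W1 2 E := conj_W1 hsN ht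
    have hcomm := Subgroup.mem_centralizer_iff.1 (h s hs hsN) u ⟨t, mem_vecPart.2 ⟨ht, htv ▸ hdp⟩, rfl⟩
    have hv : D.X.X.vec hu = Alt.d D.hodd D.o i := by
      show D.X.X.vec (conj_W1 hsN ht) = _
      rw [Alt.vec_conj D.hodd D.hn D.X hsN ht, htv, Alt.op_d, D.fix τ hτ, hτi]
    have h3 : NatAlt.op σ (D.X.X.vec hu) = D.X.X.vec hu := by
      rw [← Alt.vec_conj D.hodd D.hn D.X (hJN hx) hu]
      refine (D.X.X.vec_eq _ hu).2 ?_
      rw [← hcomm, mul_inv_cancel_right, mul_inv_cancel]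
      exact one_mem _
    have hfo := D.fix _ (D.perm_mem_P (PGroups.thompsonSubgroupOf_le 2 _ hx) (hJN hx))
    rw [hv, Alt.op_d, hfo, Alt.d_comm D.hodd D.o, Alt.d_comm D.hodd D.o i] at h3
    have hσo : σ i ≠ D.o := fun h => hi (σ.injective (h.trans hfo.symm))
    rcases Alt.mem_of_d_eq D.hodd hσo h3 with h4 | h4
    · exact hne h4
    · exact hσo h4

/-- Every block of the structure has a component. -/
theorem exists_component (halt : ∀ m : ℕ, Nonempty (↥E ⧸ Cfsg.pCore 2 ↥E ≃* ↥(alternatingGroup (Fin (2 * m + 1)))) →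
    ∃ n : ℕ, 2 * m + 1 = 2 ^ n + 1) : Nonempty (Component T E) := by
  have hE : IsBlk 2 E := ⟨T, hT⟩
  have key : ∀ n, Odd n → 3 ≤ n → ∀ X : AltModel 2 E n, Nonempty (Component T E) := fun n hodd hn X => by
    obtain ⟨m, rfl⟩ := hodd
    obtain ⟨e⟩ := quot_range X.X
    obtain ⟨j, hj⟩ := halt m ⟨e.trans (MulEquiv.subgroupCongr X.range_eq)⟩
    exact component_alt hG hT hEs ⟨m, rfl⟩ hn X hj
  rcases exists_cases hE with ⟨K, _, _, k, hk0, hk, _, ⟨Y⟩⟩ | ⟨-, n, hodd, hn, ⟨X⟩⟩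
  · by_cases h4 : 4 ≤ Fintype.card K
    · exact component_linear hG hT hEs Y h4
    · have h2 : Fintype.card K = 2 := by
        obtain rfl : k = 1 := by
          by_contra hk1
          exact h4 (hk ▸ le_trans (by norm_num) (Nat.pow_le_pow_right (by norm_num) (show 2 ≤ k by omega)))
        exact hk.trans (pow_one 2)
      obtain ⟨X⟩ := altModel_of_two h2 Y
      exact key 3 ⟨1, rfl⟩ le_rfl X
  · exact key n hodd hn X

end Cfsg.Agent.Lib.CGT57
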